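import Cfsg.Agent.SelfThree.Classes
import Cfsg.Agent.Classical.SmallPSL
import Cfsg.Agent.LocalB.HigmanGroup
import Cfsg.Agent.S0494
import Cfsg.Agent.S0495
import Mathlib.FieldTheory.Finite.GaloisField

/-!
Groups with a self-centralising subgroup of order three (Feit and Thompson).
-/

set_option autoImplicit false
set_option linter.style.haveILetI false

namespace CfsgLib.SelfThree

open Subgroup

universe u

/-- A simple group all whose proper subgroups through `x` have known structure. -/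
theorem simple_case {G : Type u} [Group G] [Finite G] [IsSimpleGroup G] {x : G} (h : SC x)
    (hG : ¬ IsMulCommutative G) (hIH : ∀ H : Subgroup G, H ≠ ⊤ → x ∈ H → Good H) :
    Nat.card G = 60 ∨ Nat.card G = 168 := by
  obtain ⟨t, ht⟩ := h.exists_inverting hG
  exact Setting.simple_order (t := t) ⟨inferInstance, hG, h, ht, hIH⟩

/-- The structure theorem. -/
theorem good : ∀ (n : ℕ) (G : Type u) [Group G] [Finite G] (x : G),
    Nat.card G = n → SC x → Good G := by
  intro n
  induction n using Nat.strong_induction_on with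
  | _ n ih =>
  intro G _ _ x hn h
  haveI : Fact (Nat.Prime 3) := ⟨Nat.prime_three⟩
  haveI : Fact (Nat.Prime 2) := ⟨Nat.prime_two⟩
  haveI : Fact (Nat.Prime 7) := ⟨by norm_num⟩
  set K := Cfsg.pPrimeCore 3 G with hK
  haveI hKn : K.Normal := CfsgLib.Solvable.pPrimeCore_normal 3
  have hK3 : ¬ 3 ∣ Nat.card K := not_three_dvd_core
  by_cases hb : K ≠ ⊥
  · -- pass to the quotient
    have hlt : Nat.card (G ⧸ K) < n := by
      have h1 := Subgroup.card_eq_card_quotient_mul_card_subgroup K
      have h2 : Nat.card K ≠ 1 := fun e => hb (eq_bot_of_card_eq _ e)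
      have h3 := Nat.card_pos (α := K)
      have h4 := Nat.card_pos (α := G ⧸ K)
      rw [← hn, h1]
      have : 2 ≤ Nat.card K := by omega
      nlinarith
    have hbot : Cfsg.pPrimeCore 3 (G ⧸ K) = ⊥ := CfsgLib.Fitting.pPrimeCore_quotient_eq_bot 3
    have hq := h.quotient hK3
    have hgood : Good (G ⧸ K) := ih _ hlt (G ⧸ K) _ rfl hq
    unfold Good at hgood ⊢
    have hidx : (Cfsg.pPrimeCore 3 (G ⧸ K)).index = K.index := by
      rw [hbot, index_bot, index_eq_card]
    rw [hidx] at hgood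
    rcases hgood with e | e | ⟨e, hs, -⟩ | ⟨e, hs⟩
    · exact Or.inl e
    · exact Or.inr (Or.inl e)
    · haveI : IsSimpleGroup (G ⧸ K) := by
        haveI := hs
        exact ((QuotientGroup.quotientMulEquivOfEq hbot).trans
          QuotientGroup.quotientBot).symm.isSimpleGroup
      obtain ⟨A, hA, hA4⟩ := hq.exists_inv_sixty (by rw [← index_eq_card]; exact e)
      refine Or.inr (Or.inr (Or.inl ⟨e, ‹_›, h.core_isPGroup hK3 hA ?_
        (IsPGroup.of_card (n := 2) (by rw [hA4]; norm_num))⟩))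
      intro e'
      rw [e', Subgroup.card_bot] at hA4
      norm_num at hA4
    · exfalso
      haveI := hs
      obtain ⟨⟨A, hA, hA7⟩, ⟨B, hB, hB4⟩⟩ := hq.exists_inv_oneSixtyEight e
      have h1 : IsPGroup 7 K := h.core_isPGroup hK3 hA
        (fun e' => by rw [e', Subgroup.card_bot] at hA7; norm_num at hA7)
        (IsPGroup.of_card (n := 1) (by rw [hA7]; norm_num))
      have h2 : IsPGroup 2 K := h.core_isPGroup hK3 hB
        (fun e' => by rw [e', Subgroup.card_bot] at hB4; norm_num at hB4)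
        (IsPGroup.of_card (n := 2) (by rw [hB4]; norm_num))
      exact hb (disjoint_self.1 (IsPGroup.disjoint_of_ne 7 2 (by norm_num) K K h1 h2))
  push Not at hb
  have hnorm : ∀ N : Subgroup G, N.Normal → ¬ 3 ∣ Nat.card N → N = ⊥ := fun N hN h3 =>
    le_bot_iff.1 (hb ▸ le_core hN h3)
  unfold Good
  have hKi : (Cfsg.pPrimeCore 3 G).index = Nat.card G := by rw [← hK, hb, index_bot]
  rw [hKi]
  rcases h.card_normalizer with e3 | e6
  · obtain ⟨K0, hK0, hcard, hK03⟩ := h.burnside e3
    rw [hnorm K0 hK0 hK03, Subgroup.card_bot] at hcard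
    exact Or.inl hcard
  obtain ⟨t, ht⟩ := h.inverts_of_six e6
  by_cases hXn : (zpowers x).Normal
  · refine Or.inr (Or.inl ?_)
    rwa [normalizer_eq_top_iff.2 hXn, Subgroup.card_top] at e6
  -- every non-trivial normal subgroup is everything
  have hall : ∀ M : Subgroup G, M.Normal → M ≠ ⊥ → M = ⊤ := by
    intro M hM hM1
    have h3 : 3 ∣ Nat.card M := by_contra fun h3 => hM1 (hnorm M hM h3)
    obtain ⟨⟨y, hyM⟩, hy⟩ := exists_prime_orderOf_dvd_card' (G := M) 3 h3
    rw [Subgroup.orderOf_mk] at hy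
    have hxM : x ∈ M := by
      obtain ⟨g, rfl | rfl⟩ := h.exists_conj hy
      · simpa [mul_assoc] using hM.conj_mem _ hyM g⁻¹
      · simpa [mul_assoc] using inv_mem (hM.conj_mem _ hyM g⁻¹)
    have hM' : SC (⟨x, hxM⟩ : M) := h.subgroup hxM
    rcases hM'.card_normalizer with f3 | f6
    · exfalso
      obtain ⟨K0, hK0, hcard, hK03⟩ := hM'.burnside f3
      have hb' : Cfsg.pPrimeCore 3 M = ⊥ := by
        haveI hc : (Cfsg.pPrimeCore 3 M).Characteristic :=
          characteristic_iff_map_le.2 fun φ => le_core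
            ((CfsgLib.Solvable.pPrimeCore_normal (p := 3)).map φ.toMonoidHom φ.surjective)
            (by rw [card_map_of_injective φ.injective]; exact not_three_dvd_core)
        have h1 := hnorm ((Cfsg.pPrimeCore 3 M).map M.subtype) inferInstance
          (by rw [card_map_of_injective M.subtype_injective]; exact not_three_dvd_core)
        exact (map_eq_bot_iff_of_injective _ M.subtype_injective).1 h1
      have h0 : K0 = ⊥ := le_bot_iff.1 (hb' ▸ le_core hK0 hK03)
      rw [h0, Subgroup.card_bot] at hcard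
      refine hXn ?_
      have hMX : M = zpowers x :=
        (eq_of_le_of_card_ge (zpowers_le.2 hxM) (by rw [hcard, h.card_zpowers])).symm
      exact hMX ▸ hM
    · obtain ⟨⟨t', ht'⟩, hord, hconj⟩ := hM'.inverts_of_six f6
      have hi' : Inverts t' x :=
        ⟨by rw [← hord, Subgroup.orderOf_mk], congrArg Subtype.val hconj⟩
      have htM : t ∈ M := by
        have h1 : t' * t ∈ M := zpowers_le.2 hxM (ht.mem_mul h hi')
        simpa [← mul_assoc, hi'.mul_self] using mul_mem ht' h1
      refine top_le_iff.1 fun g _ => ?_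
      have hgx : g * x * g⁻¹ ∈ M := hM.conj_mem _ hxM g
      obtain ⟨⟨m, hm⟩, hmc⟩ := hM'.exists_conj (y := ⟨g * x * g⁻¹, hgx⟩)
        (by rw [Subgroup.orderOf_mk]; exact (h.conj g).ord)
      have hmg : (m⁻¹ * g) * x * (m⁻¹ * g)⁻¹ = x ∨ (m⁻¹ * g) * x * (m⁻¹ * g)⁻¹ = x⁻¹ := by
        rcases hmc with e | e
        · left
          have e' : g * x * g⁻¹ = m * x * m⁻¹ := congrArg Subtype.val e
          calc m⁻¹ * g * x * (m⁻¹ * g)⁻¹ = m⁻¹ * (g * x * g⁻¹) * m := by group
            _ = x := by rw [e']; group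
        · right
          have e' : g * x * g⁻¹ = m * x⁻¹ * m⁻¹ := congrArg Subtype.val e
          calc m⁻¹ * g * x * (m⁻¹ * g)⁻¹ = m⁻¹ * (g * x * g⁻¹) * m := by group
            _ = x⁻¹ := by rw [e']; group
      have : m⁻¹ * g ∈ M := by
        rcases mem_normalizer_zpowers_cases h ht hmg with e | ⟨c, hc, e⟩
        · exact zpowers_le.2 hxM e
        · rw [e]; exact mul_mem (zpowers_le.2 hxM hc) htM
      simpa using mul_mem hm this
  haveI : Nontrivial G := ⟨⟨x, 1, h.ne_one⟩⟩
  haveI hsimp : IsSimpleGroup G :=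
    ⟨fun M hM => (em (M = ⊥)).imp_right (hall M hM)⟩
  have hG : ¬ IsMulCommutative G := fun hc => by
    have h1 : t * x * t⁻¹ = x := by rw [hc.is_comm.comm t x, mul_inv_cancel_right]
    rw [ht.conj] at h1
    have := orderOf_dvd_of_pow_eq_one (show x ^ 2 = 1 by
      rw [pow_two]; nth_rewrite 1 [← h1]; exact inv_mul_cancel x)
    rw [h.ord] at this
    norm_num at this
  have hIH : ∀ H : Subgroup G, H ≠ ⊤ → x ∈ H → Good H := fun H hH hx => by
    refine ih _ ?_ H ⟨x, hx⟩ rfl (h.subgroup hx)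
    rw [← hn]
    exact lt_of_le_of_ne (card_le_card_group H) fun e => hH (eq_top_of_card_eq _ e)
  rcases simple_case h hG hIH with e | e
  · refine Or.inr (Or.inr (Or.inl ⟨e, ?_, ?_⟩))
    · exact ((QuotientGroup.quotientMulEquivOfEq hb).trans QuotientGroup.quotientBot).isSimpleGroup
    · exact IsPGroup.of_card (n := 0) (by rw [← hK, hb, Subgroup.card_bot, pow_zero])
  · exact Or.inr (Or.inr (Or.inr ⟨e, hsimp⟩))

/-- `SL₂(4) ≅ A₅`. -/
theorem sl_two_four_iso : Nonempty
    (Matrix.SpecialLinearGroup (Fin 2) (GaloisField 2 2) ≃* alternatingGroup (Fin 5)) := by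
  haveI : Fact (Nat.Prime 2) := ⟨Nat.prime_two⟩
  haveI := Fintype.ofFinite (GaloisField 2 2)
  have hF : Fintype.card (GaloisField 2 2) = 4 := by
    rw [← Nat.card_eq_fintype_card, GaloisField.card 2 2 (by norm_num)]
    norm_num
  haveI := CfsgLib.Linear.isSimpleGroup_PSL (ι := Fin 2) (F := GaloisField 2 2)
    (Or.inr (CfsgLib.Linear.Small.exists_sq_ne_one (by omega)))
  have hc := CfsgLib.Linear.Small.card_psl_two hF
  norm_num [-Nat.card_eq_fintype_card] at hc
  have h60 : Nat.card (Matrix.ProjectiveSpecialLinearGroup (Fin 2) (GaloisField 2 2)) = 60 := by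
    omega
  obtain ⟨e⟩ := Cfsg.Agent.S0494.result h60
  have hz : Subgroup.center (Matrix.SpecialLinearGroup (Fin 2) (GaloisField 2 2)) = ⊥ :=
    eq_bot_of_card_eq _ (by
      rw [CfsgLib.Linear.card_center_SL, Fintype.card_fin, Nat.card_eq_fintype_card, hF]; rfl)
  exact ⟨(QuotientGroup.quotientBot.symm.trans
    (QuotientGroup.quotientMulEquivOfEq hz).symm).trans e⟩

/-- A group of order six with a self-centralising element of order three is `Sym(3)`. -/
theorem iso_sym_three {G : Type u} [Group G] [Finite G] {x : G} (h : SC x)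
    (hG : Nat.card G = 6) : Nonempty (G ≃* Equiv.Perm (Fin 3)) := by
  classical
  haveI : Fact (Nat.Prime 2) := ⟨Nat.prime_two⟩
  obtain ⟨Q⟩ : Nonempty (Sylow 2 G) := Sylow.nonempty
  have hQ : Nat.card (Q : Subgroup G) = 2 :=
    (CfsgLib.SmallSimple.card_sylow_eq Q (k := 1) (m := 3) (by rw [hG]; norm_num) (by norm_num)).trans
      (pow_one 2)
  set f := MulAction.toPermHom G (G ⧸ (Q : Subgroup G))
  have hker : f.ker = ⊥ := by
    refine eq_bot_of_card_eq _ (h.card_inv_six (by rw [hG]) ⟨fun h3 => ?_, ?_⟩)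
    · have hle : f.ker ≤ (Q : Subgroup G) := by
        show (MulAction.toPermHom G (G ⧸ (Q : Subgroup G))).ker ≤ _
        rw [← Subgroup.normalCore_eq_ker]
        exact Subgroup.normalCore_le _
      have := h3.trans (card_dvd_of_le hle)
      rw [hQ] at this
      norm_num at this
    · rw [normalizer_eq_top_iff.2 inferInstance]; exact mem_top x
  have hidx : Nat.card (G ⧸ (Q : Subgroup G)) = 3 := by
    have := (Q : Subgroup G).card_mul_index
    rw [hG, hQ, index_eq_card] at this
    omega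
  have hbij : Function.Bijective f := by
    haveI := Fintype.ofFinite (G ⧸ (Q : Subgroup G))
    rw [Nat.bijective_iff_injective_and_card]
    refine ⟨(MonoidHom.ker_eq_bot_iff f).1 hker, ?_⟩
    rw [hG, Nat.card_perm, hidx]
    rfl
  exact ⟨(MulEquiv.ofBijective f hbij).trans (Finite.equivFinOfCardEq hidx).permCongrHom⟩

/-- The structure of a group with a self-centralising subgroup of order three. -/
theorem main {G : Type u} [Group G] [Finite G] {x : G} (h : SC x) :
    (∃ (N : Subgroup G) (_ : N.Normal), Group.IsNilpotent N ∧ (Nat.card N).Coprime 3 ∧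
        (Nat.card (G ⧸ N) = 3 ∨ Nonempty (G ⧸ N ≃* Equiv.Perm (Fin 3)))) ∨
    (∃ (N : Subgroup G) (_ : N.Normal), IsMulCommutative N ∧ (∀ n ∈ N, n ^ 2 = 1) ∧
        Nonempty (G ⧸ N ≃* alternatingGroup (Fin 5))) ∨
    Nonempty (G ≃* Matrix.ProjectiveSpecialLinearGroup (Fin 2) (ZMod 7)) := by
  haveI : Fact (Nat.Prime 3) := ⟨Nat.prime_three⟩
  haveI : Fact (Nat.Prime 7) := ⟨by norm_num⟩
  have hgood := good (Nat.card G) G x rfl h
  haveI hKn : (Cfsg.pPrimeCore 3 G).Normal := CfsgLib.Solvable.pPrimeCore_normal 3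
  set K := Cfsg.pPrimeCore 3 G with hK
  have hK3 : ¬ 3 ∣ Nat.card K := not_three_dvd_core
  have hI : Inv x K := ⟨hK3, by rw [normalizer_eq_top_iff.2 hKn]; exact mem_top x⟩
  have hcop : (Nat.card K).Coprime 3 := (Nat.prime_three.coprime_iff_not_dvd.2 hK3).symm
  unfold Good at hgood
  rcases hgood with e | e | ⟨e, hs, h2⟩ | ⟨e, hs⟩
  · exact Or.inl ⟨K, hKn, h.isNilpotent hI, hcop, Or.inl (by rw [← index_eq_card]; exact e)⟩
  · exact Or.inl ⟨K, hKn, h.isNilpotent hI, hcop,
      Or.inr (iso_sym_three (h.quotient hK3) (by rw [← index_eq_card]; exact e))⟩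
  · haveI := hs
    obtain ⟨e5⟩ := Cfsg.Agent.S0494.result (G := G ⧸ K) (by rw [← index_eq_card]; exact e)
    obtain ⟨eSL⟩ := sl_two_four_iso
    haveI := Fintype.ofFinite (GaloisField 2 2)
    obtain ⟨a, ha0, ha1⟩ : ∃ a : GaloisField 2 2, a ≠ 0 ∧ a ≠ 1 := by
      obtain ⟨a, ha0, ha2⟩ := CfsgLib.Linear.Small.exists_sq_ne_one (F := GaloisField 2 2) (by
        rw [← Nat.card_eq_fintype_card, GaloisField.card 2 2 (by norm_num)]; norm_num)
      exact ⟨a, ha0, fun e' => ha2 (by rw [e', one_pow])⟩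
    have hel := CfsgLib.Higman.elementary_of_fpf ha0 ha1 (Nat.card K) G K rfl h2
      (e5.trans eSL.symm) x h.pow_three
      (fun hx => hK3 (by
        have := orderOf_dvd_natCard (⟨x, hx⟩ : K)
        rwa [Subgroup.orderOf_mk, h.ord] at this))
      (fun q hq hfix => h.fpf hI hq (mul_inv_eq_iff_eq_mul.1 hfix).symm)
    exact Or.inr (Or.inl ⟨K, hKn, hel.1, hel.2, ⟨e5⟩⟩)
  · haveI := hs
    exact Or.inr (Or.inr (Cfsg.Agent.S0495.result e (F := ZMod 7) (ZMod.card 7)))

end CfsgLib.SelfThree
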