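import Cfsg.Agent.SelfThree.Basic
import Cfsg.Agent.Char.Kernel
import Cfsg.Agent.Char.Galois
import Cfsg.Agent.Char.ClassProducts
import Cfsg.Agent.Char.Orthogonality

/-!
The three characters not vanishing on the self-centralising element, and the counts they give
in a simple group.
-/

set_option autoImplicit false
set_option linter.style.haveILetI false

namespace CfsgLib.SelfThree

open Subgroup CfsgLib.Char
open scoped ComplexConjugate

universe u

variable {G : Type u} [Group G]

/-- The pairs counted by the class multiplication at `x`. -/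
def pairSet (x : G) : Set G := {y | orderOf y = 3 ∧ orderOf (y⁻¹ * x) = 3}

theorem exists_invariants [Finite G] [IsSimpleGroup G] {x t : G} (h : SC x)
    (hG : ¬ IsMulCommutative G) (ht : orderOf t = 2) (htx : t * x * t⁻¹ = x⁻¹) :
    ∃ f b a : ℕ, 2 ≤ f ∧ 0 < b ∧ Nat.card G = 3 * f * (f + 1) * b ^ 2 ∧
      Nat.card G + 3 * b ^ 2 = 9 * Nat.card (pairSet x) ∧
      (Nat.card (centralizer ({t} : Set G)) + b * a = b * f ∨
        Nat.card (centralizer ({t} : Set G)) = b * f + b * a) ∧
      a < f ∧ 2 * a ^ 2 + 2 ≤ Nat.card (centralizer ({t} : Set G)) + 2 * a ∧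
      ∀ s : G, orderOf s = 2 → IsConj t s := by
  classical
  haveI := Fintype.ofFinite G
  haveI : Fact (Nat.Prime 3) := ⟨Nat.prime_three⟩
  set g := Nat.card G with hgdef
  have hg0 : 0 < g := Nat.card_pos
  -- conjugacy of the elements of order three
  have hxx : IsConj x x⁻¹ := isConj_iff.2 ⟨t, htx⟩
  have hx3 : ∀ y : G, orderOf y = 3 ↔ IsConj x y := by
    intro y
    constructor
    · intro hy
      obtain ⟨c, rfl | rfl⟩ := h.exists_conj hy
      · exact isConj_iff.2 ⟨c, rfl⟩
      · exact hxx.trans (isConj_iff.2 ⟨c, rfl⟩)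
    · intro hy
      obtain ⟨c, rfl⟩ := isConj_iff.1 hy
      exact (h.conj c).ord
  -- integral values on `x`
  have hint : ∀ χ ∈ irrFinset G, ∃ m : ℤ, χ x = m := by
    intro χ hχ
    rw [mem_irrFinset] at hχ
    refine IsCharacter.exists_int_apply (IsIrrCharacter.isCharacter hχ) fun k hk => ?_
    have h3 : k % 3 = 1 ∨ k % 3 = 2 := by
      have : ¬ 3 ∣ k := fun hd => by
        have := Nat.dvd_gcd hd h.three_dvd
        rw [hk] at this
        omega
      omega
    rw [← pow_mod_orderOf, h.ord]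
    rcases h3 with e | e <;> rw [e]
    · rw [pow_one]
    · rw [pow_two, show x * x = x⁻¹ from eq_inv_of_mul_eq_one_left (by rw [← pow_three', h.pow_three])]
      exact (IsClassFunction.apply_eq_of_isConj (IsIrrCharacter.isClassFunction hχ) hxx).symm
  choose! m hm using hint
  have hsq : ∑ χ ∈ irrFinset G, m χ * m χ = 3 := by
    have h1 := sum_irr_mul_conj x x
    rw [if_pos (IsConj.refl x), h.cent, h.card_zpowers] at h1
    have h2 : ((∑ χ ∈ irrFinset G, m χ * m χ : ℤ) : ℂ) = ((3 : ℤ) : ℂ) := by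
      push_cast
      calc _ = ∑ χ ∈ irrFinset G, χ x * conj (χ x) :=
            Finset.sum_congr rfl fun χ hχ => by rw [hm χ hχ, map_intCast]
        _ = _ := by rw [h1]; norm_num
    exact_mod_cast h2
  set one : G → ℂ := fun _ => 1 with hone
  have hone_mem : one ∈ irrFinset G := mem_irrFinset.2 isIrrCharacter_one
  have hm1 : m one = 1 := by
    have h1 := hm one hone_mem
    have h2 : ((m one : ℤ) : ℂ) = ((1 : ℤ) : ℂ) := by
      rw [← h1, hone]; norm_num
    exact_mod_cast h2
  set S := ((irrFinset G).erase one).filter (fun χ => m χ ≠ 0) with hS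
  have hS2 : ∑ χ ∈ S, m χ * m χ = 2 := by
    rw [hS, Finset.sum_filter_of_ne]
    swap
    · intro χ _ hne e
      exact hne (by rw [e, mul_zero])
    rw [← Finset.add_sum_erase _ _ hone_mem, hm1] at hsq
    linarith
  have hge : ∀ χ ∈ S, 1 ≤ m χ * m χ := fun χ hχ => by
    have h0 : m χ ≠ 0 := (Finset.mem_filter.1 hχ).2
    have := mul_self_pos.2 h0
    omega
  have hle : ∀ χ ∈ S, m χ * m χ = 1 := by
    intro χ hχ
    have h1 : m χ * m χ ≤ 2 := hS2 ▸ Finset.single_le_sum (fun ν _ => mul_self_nonneg (m ν)) hχ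
    have : m χ < 2 ∧ -2 < m χ := by constructor <;> nlinarith
    have := (Finset.mem_filter.1 hχ).2
    rcases (show m χ = 1 ∨ m χ = -1 by omega) with e | e <;> rw [e] <;> norm_num
  have hScard : S.card = 2 := by
    rw [Finset.sum_congr rfl hle, Finset.sum_const, nsmul_eq_mul, mul_one] at hS2
    exact_mod_cast hS2
  obtain ⟨A, B, hAB, hSAB⟩ := Finset.card_eq_two.1 hScard
  have hAS : A ∈ S := by rw [hSAB]; simp
  have hBS : B ∈ S := by rw [hSAB]; simp
  have hAi := Finset.mem_of_mem_erase (Finset.mem_filter.1 hAS).1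
  have hBi := Finset.mem_of_mem_erase (Finset.mem_filter.1 hBS).1
  have hsum : ∀ F : (G → ℂ) → ℂ, (∀ χ ∈ irrFinset G, m χ = 0 → F χ = 0) →
      ∑ χ ∈ irrFinset G, F χ = F one + F A + F B := by
    intro F hF
    rw [← Finset.add_sum_erase _ _ hone_mem, add_assoc, ← Finset.sum_pair hAB, ← hSAB, hS,
      Finset.sum_filter_of_ne]
    intro χ hχ hne e
    exact hne (hF χ (Finset.mem_of_mem_erase hχ) e)
  have horth : ∀ s : G, ¬ IsConj s x → 1 + A s * (m A : ℂ) + B s * (m B : ℂ) = 0 := by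
    intro s hs
    have h1 := sum_irr_mul_conj s x
    rw [if_neg hs] at h1
    rw [hsum _ fun χ hχ e => by rw [hm χ hχ, e]; simp] at h1
    rw [hm A hAi, hm B hBi, map_intCast, map_intCast] at h1
    rw [hone] at h1
    simpa using h1
  -- which is which
  obtain ⟨χ, ψ, hχi, hψi, hχ1, hψ1, hsumχ, horth'⟩ : ∃ χ ψ : G → ℂ, χ ∈ irrFinset G ∧ ψ ∈ irrFinset G ∧
      m χ = 1 ∧ m ψ = -1 ∧
      (∀ F : (G → ℂ) → ℂ, (∀ φ ∈ irrFinset G, m φ = 0 → F φ = 0) →
        ∑ φ ∈ irrFinset G, F φ = F one + F χ + F ψ) ∧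
      ∀ s : G, ¬ IsConj s x → 1 + χ s - ψ s = 0 := by
    obtain ⟨a, ha0, ha⟩ := IsIrrCharacter.exists_degree (mem_irrFinset.1 hAi)
    obtain ⟨c, hc0, hc⟩ := IsIrrCharacter.exists_degree (mem_irrFinset.1 hBi)
    have h1x : ¬ IsConj (1 : G) x := fun e => h.ne_one (isConj_one_right.1 e)
    have h1 := horth 1 h1x
    rw [ha, hc] at h1
    have hA' := hle A hAS
    have hB' := hle B hBS
    have hAc : m A = 1 ∨ m A = -1 := Int.eq_one_or_neg_one_of_mul_eq_one hA'
    have hBc : m B = 1 ∨ m B = -1 := Int.eq_one_or_neg_one_of_mul_eq_one hB'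
    rcases hAc with eA | eA <;> rcases hBc with eB | eB
    · exfalso
      rw [eA, eB] at h1
      have h1' : ((1 + a + c : ℕ) : ℂ) = 0 := by push_cast at h1 ⊢; linear_combination h1
      have : 1 + a + c = 0 := by exact_mod_cast h1'
      omega
    · refine ⟨A, B, hAi, hBi, eA, eB, hsum, fun s hs => ?_⟩
      have := horth s hs
      rw [eA, eB] at this
      push_cast at this
      linear_combination this
    · refine ⟨B, A, hBi, hAi, eB, eA, fun F hF => by rw [hsum F hF]; ring, fun s hs => ?_⟩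
      have := horth s hs
      rw [eA, eB] at this
      push_cast at this
      linear_combination this
    · exfalso
      rw [eA, eB] at h1
      have h1' : ((a + c : ℕ) : ℂ) = ((1 : ℕ) : ℂ) := by push_cast at h1 ⊢; linear_combination -h1
      have : a + c = 1 := by exact_mod_cast h1'
      omega
  have hχ := mem_irrFinset.1 hχi
  have hψ := mem_irrFinset.1 hψi
  obtain ⟨f, hf0, hf⟩ := IsIrrCharacter.exists_degree hχ
  have hψdeg : ψ 1 = (f : ℂ) + 1 := by
    have := horth' 1 fun e => h.ne_one (isConj_one_right.1 e)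
    rw [hf] at this
    linear_combination -this
  have hχx : χ x = 1 := by rw [hm χ hχi, hχ1]; norm_num
  have hψx : ψ x = -1 := by rw [hm ψ hψi, hψ1]; norm_num
  have hf2 : 2 ≤ f := by
    by_contra hlt
    obtain rfl : f = 1 := by omega
    obtain ⟨lam, hlam⟩ := IsCharacter.exists_hom (IsIrrCharacter.isCharacter hχ) (by simpa using hf)
    have hl1 : lam = 1 := CfsgLib.SmallSimple.hom_comm_eq_one hG lam
    have hχone : χ = one := by rw [hlam, hl1, hone]; funext z; simp
    have h1 := hsumχ (fun φ => if φ = one then 1 else 0) fun φ hφ e => by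
      rw [if_neg]; intro e'; rw [e', hm1] at e; omega
    have hψone : ψ ≠ one := fun e => by rw [e, hm1] at hψ1; omega
    rw [Finset.sum_ite_eq', if_pos hone_mem] at h1
    simp [hχone, hψone] at h1
  -- values on involutions
  have hval : ∀ s : G, orderOf s = 2 → ∃ e : ℤ, χ s = e := by
    intro s hs
    refine IsCharacter.exists_int_apply (IsIrrCharacter.isCharacter hχ) fun k hk => ?_
    have h2 : k % 2 = 1 := by
      have : ¬ 2 ∣ k := fun hd => by
        have := Nat.dvd_gcd hd (hs ▸ _root_.orderOf_dvd_natCard s : 2 ∣ Nat.card G)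
        rw [hk] at this
        omega
      omega
    rw [← pow_mod_orderOf, hs, h2, pow_one]
  obtain ⟨e, he⟩ := hval t ht
  have hinv : ∀ s : G, orderOf s = 2 → ¬ IsConj s x := fun s hs hc => by
    have := ((hx3 s).2 hc.symm)
    omega
  have hψs : ∀ s : G, orderOf s = 2 → ψ s = 1 + χ s := fun s hs => by
    linear_combination -(horth' s (hinv s hs))
  have hfC : (f : ℂ) ≠ 0 := by exact_mod_cast (show f ≠ 0 by omega)
  have hf1C : (f : ℂ) + 1 ≠ 0 := by exact_mod_cast (show f + 1 ≠ 0 by omega)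
  -- the involutions inverting `x`
  have hkey : ∀ u v : G, orderOf u = 2 → orderOf v = 2 → u * v = x →
      ∃ c ∈ zpowers x, u = c * t := by
    intro u v hu hv huv
    refine ⟨u * t, h.mem_of_commute ?_, by rw [mul_assoc, ← pow_two, ← ht, pow_orderOf_eq_one, mul_one]⟩
    have hu2 : u * u = 1 := by rw [← pow_two, ← hu, pow_orderOf_eq_one]
    have hv2 : v * v = 1 := by rw [← pow_two, ← hv, pow_orderOf_eq_one]
    have e1 : u * x⁻¹ = x * u := by
      rw [← huv, mul_inv_rev, inv_eq_of_mul_eq_one_right hu2, inv_eq_of_mul_eq_one_right hv2]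
      group
    have e2 : t * x = x⁻¹ * t := by rw [← htx]; group
    show u * t * x = x * (u * t)
    rw [mul_assoc, e2, ← mul_assoc, e1, mul_assoc]
  have ht2 : t * t = 1 := by rw [← pow_two, ← ht, pow_orderOf_eq_one]
  have e2 : t * x = x⁻¹ * t := by rw [← htx]; group
  have e3 : t * x⁻¹ = x * t := by
    calc t * x⁻¹ = x * (x⁻¹ * t) * x⁻¹ := by group
      _ = x * (t * x) * x⁻¹ := by rw [e2]
      _ = x * t := by group
  have hxxi : x * x = x⁻¹ := eq_inv_of_mul_eq_one_left (by rw [← pow_three', h.pow_three])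
  have hcosetconj : ∀ c ∈ zpowers x, IsConj t (c * t) := by
    intro c hc
    rcases h.mem_cases hc with e' | e' | e' <;> rw [e']
    · rw [one_mul]
    · refine isConj_iff.2 ⟨x⁻¹, ?_⟩
      rw [inv_inv, mul_assoc, e2, ← mul_assoc, ← mul_inv_rev, hxxi, inv_inv]
    · refine isConj_iff.2 ⟨x, ?_⟩
      rw [mul_assoc, e3, ← mul_assoc, hxxi]
  -- class multiplication
  have hT : (Nat.card {u : G // IsConj t u} : ℂ) * Nat.card (centralizer ({t} : Set G)) = g := by
    exact_mod_cast card_conj_class_mul_card_centralizer t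
  have hmul : ∀ s : G, orderOf s = 2 → ∀ es : ℤ, χ s = es →
      (Nat.card {q : G × G // IsConj t q.1 ∧ IsConj s q.2 ∧ q.1 * q.2 = x} : ℂ) * (g * (f * (f + 1))) =
        (Nat.card {u : G // IsConj t u} : ℂ) * (Nat.card {u : G // IsConj s u} : ℂ) *
          ((f - e) * (f - es)) := by
    intro s hs es hes
    rw [card_class_products, hsumχ _ fun φ hφ e' => by rw [hm φ hφ, e']; simp]
    rw [hone]
    simp only [map_one, hχx, hψx, hψs t ht, hψs s hs, he, hes, hf, hψdeg, map_neg]
    have hg : (g : ℂ) ≠ 0 := by exact_mod_cast hg0.ne'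
    field_simp
    ring
  have hthree : Nat.card {q : G × G // IsConj t q.1 ∧ IsConj t q.2 ∧ q.1 * q.2 = x} = 3 := by
    rw [← h.card_zpowers]
    have hv : ∀ c ∈ zpowers x, IsConj t (c * t) ∧ IsConj t ((c * t)⁻¹ * x) := by
      intro c hc
      refine ⟨hcosetconj c hc, ?_⟩
      have : (c * t)⁻¹ * x = (x⁻¹ * c) * t := by
        rw [mul_inv_rev, inv_eq_of_mul_eq_one_right ht2]
        rcases h.mem_cases hc with e' | e' | e' <;> rw [e']
        · rw [inv_one, mul_one, e2, mul_one]
        · rw [mul_assoc, inv_mul_cancel, mul_one, one_mul]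
        · rw [inv_inv, mul_assoc, hxxi, e3, ← mul_inv_rev, hxxi, inv_inv]
      rw [this]
      exact hcosetconj _ (mul_mem (inv_mem (mem_zpowers x)) hc)
    refine (Nat.card_eq_of_bijective (fun c : zpowers x =>
      (⟨((c : G) * t, ((c : G) * t)⁻¹ * x), (hv c c.2).1, (hv c c.2).2, mul_inv_cancel_left _ _⟩ :
        {q : G × G // IsConj t q.1 ∧ IsConj t q.2 ∧ q.1 * q.2 = x})) ⟨?_, ?_⟩).symm
    · intro a c eq
      exact Subtype.ext (mul_right_cancel (congrArg Prod.fst (congrArg Subtype.val eq)))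
    · rintro ⟨⟨u, v⟩, hu, hv', huv⟩
      have ho : ∀ w : G, IsConj t w → orderOf w = 2 := fun w hw => by
        obtain ⟨a, rfl⟩ := isConj_iff.1 hw
        rw [← ht]; exact orderOf_injective (MulAut.conj a).toMonoidHom (MulAut.conj a).injective t
      obtain ⟨c, hc, rfl⟩ := hkey u v (ho u hu) (ho v hv') huv
      refine ⟨⟨c, hc⟩, Subtype.ext (Prod.ext rfl ?_)⟩
      simp only at huv ⊢
      rw [← huv, inv_mul_cancel_left]
  set hh := Nat.card (centralizer ({t} : Set G)) with hhdef
  have hh0 : 0 < hh := Nat.card_pos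
  have hmain : (g : ℤ) * ((f : ℤ) - e) ^ 2 = 3 * (f * (f + 1)) * (hh : ℤ) ^ 2 := by
    have h1 := hmul t ht e he
    rw [hthree] at h1
    have h2 : (g : ℂ) * ((f : ℂ) - e) ^ 2 = 3 * (f * (f + 1)) * (hh : ℂ) ^ 2 := by
      have hgC : (g : ℂ) ≠ 0 := by exact_mod_cast hg0.ne'
      apply mul_left_cancel₀ hgC
      push_cast at h1
      linear_combination (-((Nat.card {u : G // IsConj t u} : ℂ) * hh + g)) * ((f : ℂ) - e) ^ 2 * hT
        - (hh : ℂ) ^ 2 * h1
    exact_mod_cast h2
  have hd0 : (f : ℤ) - e ≠ 0 := fun e0 => by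
    rw [e0, zero_pow two_ne_zero, mul_zero] at hmain
    have : (0 : ℤ) < 3 * (f * (f + 1)) * (hh : ℤ) ^ 2 := by positivity
    omega
  -- one class of involutions
  have hone_class : ∀ s : G, orderOf s = 2 → IsConj t s := by
    intro s hs
    by_contra hns
    obtain ⟨es, hes⟩ := hval s hs
    have hzero : Nat.card {q : G × G // IsConj t q.1 ∧ IsConj s q.2 ∧ q.1 * q.2 = x} = 0 := by
      rw [Nat.card_eq_zero]; left
      refine ⟨fun q => hns ?_⟩
      obtain ⟨⟨u, v⟩, hu, hv, huv⟩ := q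
      have ho : ∀ a w : G, orderOf a = 2 → IsConj a w → orderOf w = 2 := fun a w ha hw => by
        obtain ⟨k, rfl⟩ := isConj_iff.1 hw
        rw [← ha]; exact orderOf_injective (MulAut.conj k).toMonoidHom (MulAut.conj k).injective a
      obtain ⟨c, hc, hc'⟩ := hkey u v (ho t u ht hu) (ho s v hs hv) huv
      have hv' : v = (x⁻¹ * c) * t := by
        rw [show v = u⁻¹ * x from eq_inv_mul_of_mul_eq huv, hc', mul_inv_rev,
          inv_eq_of_mul_eq_one_right ht2]
        rcases h.mem_cases hc with e' | e' | e' <;> rw [e']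
        · rw [inv_one, mul_one, e2, mul_one]
        · rw [mul_assoc, inv_mul_cancel, mul_one, one_mul]
        · rw [inv_inv, mul_assoc, hxxi, e3, ← mul_inv_rev, hxxi, inv_inv]
      exact (hv' ▸ hcosetconj _ (mul_mem (inv_mem (mem_zpowers x)) hc) : IsConj t v).trans hv.symm
    have h1 := hmul s hs es hes
    rw [hzero, Nat.cast_zero, zero_mul] at h1
    have hT0 : (Nat.card {u : G // IsConj t u} : ℂ) ≠ 0 := fun e0 => by
      rw [e0, zero_mul] at hT; exact hg0.ne' (by exact_mod_cast hT.symm)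
    have hS0 : (Nat.card {u : G // IsConj s u} : ℂ) ≠ 0 := by
      haveI : Nonempty {u : G // IsConj s u} := ⟨⟨s, IsConj.refl s⟩⟩
      exact_mod_cast (Nat.card_pos (α := {u : G // IsConj s u})).ne'
    have hd : ((f : ℂ) - e) ≠ 0 := by exact_mod_cast hd0
    have hes' : χ s = χ 1 := by
      have := (mul_eq_zero.1 ((mul_eq_zero.1 h1.symm).resolve_left (mul_ne_zero hT0 hS0))).resolve_left hd
      rw [hes, hf]; linear_combination -this
    obtain ⟨n, ρ, hρ, hρχ⟩ := id hχ
    have hρs : ρ s = 1 := by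
      refine apply_eq_one_of_character_eq ρ ?_
      rw [hρχ, hes', ← hρχ, ρ.char_one]
    rcases (inferInstance : (MonoidHom.ker ρ).Normal).eq_bot_or_eq_top with hb | hb
    · have : s = 1 := mem_bot.1 (hb ▸ MonoidHom.mem_ker.2 hρs)
      rw [this, orderOf_one] at hs; omega
    · have hx1 : ρ x = 1 := MonoidHom.mem_ker.1 (hb ▸ mem_top x)
      have : χ x = χ 1 := by
        rw [← hρχ]
        simp only [Representation.character, hx1, map_one]
      rw [hχx, hf] at this
      have : f = 1 := by exact_mod_cast this.symm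
      omega
  -- the pair count
  have hN : (Nat.card {q : G × G // IsConj x q.1 ∧ IsConj x q.2 ∧ q.1 * q.2 = x} : ℂ) *
      (9 * (f * (f + 1))) = g * (f * (f + 1) + 1) := by
    have hc : (Nat.card {u : G // IsConj x u} : ℂ) * 3 = g := by
      have h0 := card_conj_class_mul_card_centralizer x
      rw [h.cent, h.card_zpowers] at h0
      exact_mod_cast h0
    rw [card_class_products, hsumχ _ fun φ hφ e' => by rw [hm φ hφ, e']; simp]
    rw [hone]
    simp only [map_one, hχx, hψx, hf, hψdeg, map_neg]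
    have hg : (g : ℂ) ≠ 0 := by exact_mod_cast hg0.ne'
    rw [show (Nat.card {u : G // IsConj x u} : ℂ) = g / 3 by rw [← hc]; ring]
    field_simp
    ring
  have hNeq : Nat.card {q : G × G // IsConj x q.1 ∧ IsConj x q.2 ∧ q.1 * q.2 = x} =
      Nat.card (pairSet x) := by
    refine Nat.card_congr
      { toFun := fun q => ⟨q.1.1, (hx3 _).2 q.2.1, by
          rw [show q.1.1⁻¹ * x = q.1.2 from (eq_inv_mul_of_mul_eq q.2.2.2).symm]; exact (hx3 _).2 q.2.2.1⟩
        invFun := fun y => ⟨(y.1, y.1⁻¹ * x), (hx3 _).1 y.2.1, (hx3 _).1 y.2.2, mul_inv_cancel_left _ _⟩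
        left_inv := fun q => Subtype.ext (Prod.ext rfl (eq_inv_mul_of_mul_eq q.2.2.2).symm)
        right_inv := fun y => rfl }
  rw [hNeq] at hN
  set N := Nat.card (pairSet x)
  have hNint : (N : ℤ) * (9 * (f * (f + 1))) = g * (f * (f + 1) + 1) := by exact_mod_cast hN
  set c : ℤ := 9 * N - g with hc
  have hcg : c * (f * (f + 1)) = g := by rw [hc]; linear_combination hNint
  have hcd : c * ((f : ℤ) - e) ^ 2 = 3 * (hh : ℤ) ^ 2 := by
    have hff : ((f : ℤ) * (f + 1)) ≠ 0 := by positivity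
    apply mul_left_cancel₀ hff
    linear_combination hmain + ((f : ℤ) - e) ^ 2 * hcg
  obtain ⟨k, hk⟩ : ((f : ℤ) - e) ∣ 3 * hh :=
    (Int.pow_dvd_pow_iff two_ne_zero).1 ⟨3 * c, by linear_combination (-3) * hcd⟩
  have hk3c : k ^ 2 = 3 * c := by
    apply mul_left_cancel₀ (pow_ne_zero 2 hd0)
    linear_combination (-3) * hcd - ((3 * hh : ℤ) + ((f : ℤ) - e) * k) * hk
  obtain ⟨b', rfl⟩ : (3 : ℤ) ∣ k := Int.Prime.dvd_pow' Nat.prime_three ⟨c, hk3c⟩
  have hcb : c = 3 * b' ^ 2 := by linarith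
  have hhb : (hh : ℤ) = ((f : ℤ) - e) * b' := by linarith
  have hb0 : b' ≠ 0 := fun e0 => by rw [e0, mul_zero] at hhb; omega
  obtain ⟨n, ρ, hρ, hρχ⟩ := id hχ
  have hn : (n : ℂ) = (f : ℂ) := by rw [← hf, ← hρχ, ρ.char_one, Module.finrank_fin_fun]
  have hle' := IsCharacter.norm_apply_le (IsIrrCharacter.isCharacter hχ) t
  rw [he, hf, Complex.natCast_re, Complex.norm_intCast] at hle'
  have he' : |e| ≤ (f : ℤ) := by exact_mod_cast hle'
  have heq : |e| ≠ (f : ℤ) := by
    intro habs
    obtain ⟨ω, hω⟩ := (norm_character_eq_iff ρ t).1 (by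
      rw [hρχ, he, Complex.norm_intCast, Module.finrank_fin_fun]
      have : (n : ℤ) = (f : ℤ) := by exact_mod_cast hn
      rw [← habs] at this
      exact_mod_cast this.symm)
    rcases (inferInstance : (MonoidHom.ker ρ).Normal).eq_bot_or_eq_top with hb | hb
    · have hcomm : ρ (t * x * t⁻¹ * x⁻¹) = 1 := by
        have hc : ρ t * ρ x = ρ x * ρ t := by
          rw [hω]; ext v; simp
        calc ρ (t * x * t⁻¹ * x⁻¹) = ρ t * ρ x * ρ t⁻¹ * ρ x⁻¹ := by rw [map_mul, map_mul, map_mul]
          _ = ρ x * ρ (t * t⁻¹) * ρ x⁻¹ := by rw [hc, map_mul]; simp only [mul_assoc]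
          _ = 1 := by rw [mul_inv_cancel, map_one, mul_one, ← map_mul, mul_inv_cancel, map_one]
      have h1 : t * x * t⁻¹ * x⁻¹ = 1 := mem_bot.1 (hb ▸ MonoidHom.mem_ker.2 hcomm)
      rw [htx, ← mul_inv_rev, hxxi, inv_inv] at h1
      exact h.ne_one h1
    · have hx1 : ρ x = 1 := MonoidHom.mem_ker.1 (hb ▸ mem_top x)
      have : χ x = χ 1 := by
        rw [← hρχ]
        simp only [Representation.character, hx1, map_one]
      rw [hχx, hf] at this
      have : f = 1 := by exact_mod_cast this.symm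
      omega
  have hcol : 2 * e ^ 2 + 2 * e + 2 ≤ (hh : ℤ) := by
    have h1 := sum_irr_mul_conj t t
    rw [if_pos (IsConj.refl t), ← hhdef] at h1
    have h2 : ∑ φ ∈ irrFinset G, Complex.normSq (φ t) = (hh : ℝ) := by
      have h3 : ((∑ φ ∈ irrFinset G, Complex.normSq (φ t) : ℝ) : ℂ) = ((hh : ℝ) : ℂ) := by
        rw [Complex.ofReal_sum, Complex.ofReal_natCast, ← h1]
        exact Finset.sum_congr rfl fun φ _ => (Complex.mul_conj (φ t)).symm
      exact_mod_cast h3
    have h4 : ∑ φ ∈ ({one, χ, ψ} : Finset (G → ℂ)), Complex.normSq (φ t) ≤ hh := by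
      rw [← h2]
      refine Finset.sum_le_sum_of_subset_of_nonneg ?_ fun φ _ _ => Complex.normSq_nonneg _
      intro φ hφ
      simp only [Finset.mem_insert, Finset.mem_singleton] at hφ
      rcases hφ with rfl | rfl | rfl
      exacts [hone_mem, hχi, hψi]
    have d1 : one ≠ χ := fun e' => by
      have h0 : one 1 = χ 1 := congrFun e' 1
      rw [hone, hf] at h0
      replace h0 : (1 : ℂ) = (f : ℂ) := h0
      have : f = 1 := by exact_mod_cast h0.symm
      omega
    have d2 : one ≠ ψ := fun e' => by rw [← e', hm1] at hψ1; omega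
    have d3 : χ ≠ ψ := fun e' => by rw [e', hψ1] at hχ1; omega
    rw [Finset.sum_insert (by simp [d1, d2]), Finset.sum_insert (by simp [d3]),
      Finset.sum_singleton, hψs t ht, he, hone] at h4
    simp only [map_one] at h4
    rw [show (1 : ℂ) + (e : ℂ) = ((1 + e : ℤ) : ℂ) by push_cast; ring] at h4
    simp only [Complex.normSq_intCast] at h4
    have h5 : ((2 * e ^ 2 + 2 * e + 2 : ℤ) : ℝ) ≤ ((hh : ℤ) : ℝ) := by
      push_cast at h4 ⊢; linarith
    exact_mod_cast h5
  have hdb : (hh : ℤ) = ((f : ℤ) - e) * (b'.natAbs : ℤ) := by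
    have hpos : 0 < (f : ℤ) - e := by
      have := lt_of_le_of_ne he' heq
      have := le_abs_self e
      omega
    have : 0 < ((f : ℤ) - e) * b' := by rw [← hhb]; exact_mod_cast hh0
    rw [hhb, Int.natCast_natAbs, abs_of_pos ((mul_pos_iff_of_pos_left hpos).1 this)]
  refine ⟨f, b'.natAbs, e.natAbs, hf2, Int.natAbs_pos.2 hb0, ?_, ?_, ?_, ?_, ?_, hone_class⟩
  · have : (g : ℤ) = ((3 * f * (f + 1) * b'.natAbs ^ 2 : ℕ) : ℤ) := by
      push_cast; rw [sq_abs]; rw [hcb] at hcg; linarith
    exact_mod_cast this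
  · have : ((g + 3 * b'.natAbs ^ 2 : ℕ) : ℤ) = ((9 * N : ℕ) : ℤ) := by
      push_cast; rw [sq_abs]; linarith
    exact_mod_cast this
  · rcases e.natAbs_eq with e1 | e1 <;> rw [e1] at hdb
    · left
      have : ((hh + b'.natAbs * e.natAbs : ℕ) : ℤ) = ((b'.natAbs * f : ℕ) : ℤ) := by
        push_cast at hdb ⊢; linarith
      exact_mod_cast this
    · right
      have : ((hh : ℕ) : ℤ) = ((b'.natAbs * f + b'.natAbs * e.natAbs : ℕ) : ℤ) := by
        push_cast at hdb ⊢; linarith
      exact_mod_cast this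
  · have := lt_of_le_of_ne he' heq
    rw [Int.abs_eq_natAbs] at this
    omega
  · have h6 : ((2 * e.natAbs ^ 2 + 2 : ℕ) : ℤ) ≤ ((hh + 2 * e.natAbs : ℕ) : ℤ) := by
      push_cast
      rw [sq_abs]
      have := neg_abs_le e
      linarith
    exact_mod_cast h6

end CfsgLib.SelfThree
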