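import Mathlib

/-!
Arithmetic for the order of a simple group with a self-centralising element of order three.
-/

set_option autoImplicit false

namespace CfsgLib.SelfThree

/-- The largest `s < 12` with `2 s ^ 2 ≤ h`. -/
def halfRoot (h : ℕ) : ℕ :=
  if 242 ≤ h then 11 else if 200 ≤ h then 10 else if 162 ≤ h then 9 else if 128 ≤ h then 8
  else if 98 ≤ h then 7 else if 72 ≤ h then 6 else if 50 ≤ h then 5 else if 32 ≤ h then 4
  else if 18 ≤ h then 3 else if 8 ≤ h then 2 else if 2 ≤ h then 1 else 0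

theorem le_halfRoot {h s : ℕ} (hs : s < 12) (h2 : 2 * s ^ 2 ≤ h) : s ≤ halfRoot h := by
  unfold halfRoot
  interval_cases s <;> norm_num at h2 <;> split_ifs <;> omega

/-- The test performed on a candidate. -/
def candOk (h b f : ℕ) : Bool :=
  let g := 3 * f * (f + 1) * b ^ 2
  if 2 ≤ f ∧ g % 4 = 0 ∧ g % h = 0 ∧ (g / h) % 2 = 1 ∧ g % 9 ≠ 0 ∧
    100 * (g + 3 * b ^ 2) ≤ 100 * (9 + 18 * (h - 1) +
      if g % 8 = 0 then 9 * ((halfRoot h + 1) * (h - 1)) else 0) + 34 * g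
  then (g == 60 || g == 168 || g == 816) else true

theorem cand_all : ∀ i : Fin 63, (4 * (i.val + 1)) % 3 ≠ 0 → ∀ b : Fin 255,
    b.val ≠ 0 → (4 * (i.val + 1)) % b.val = 0 → ∀ a : Fin 13,
    2 * a.val ^ 2 + 2 ≤ 4 * (i.val + 1) + 2 * a.val →
    (a.val < a.val + 4 * (i.val + 1) / b.val → candOk (4 * (i.val + 1)) b.val (a.val + 4 * (i.val + 1) / b.val)) ∧
    (a.val < 4 * (i.val + 1) / b.val - a.val → candOk (4 * (i.val + 1)) b.val (4 * (i.val + 1) / b.val - a.val)) := by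
  decide +kernel

/-- The order is 60, 168 or 816. -/
theorem order_cases {g f b a h s S : ℕ} (hf : 2 ≤ f) (hb : 0 < b)
    (hg : g = 3 * f * (f + 1) * b ^ 2) (hh : h + b * a = b * f ∨ h = b * f + b * a) (haf : a < f)
    (ha : 2 * a ^ 2 + 2 ≤ h + 2 * a) (h4 : 4 ∣ h) (h3 : ¬ 3 ∣ h) (hgh : h ∣ g)
    (hodd : g / h % 2 = 1) (hg9 : ¬ 9 ∣ g) (hs : 2 * s ^ 2 ≤ h)
    (hS : S ≤ 9 + 18 * (h - 1) + if g % 8 = 0 then 9 * ((s + 1) * (h - 1)) else 0)
    (hmain : 100 * (g + 3 * b ^ 2) ≤ 100 * S + 34 * g) : g = 60 ∨ g = 168 ∨ g = 816 := by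
  have hg4 : g % 4 = 0 := Nat.mod_eq_zero_of_dvd (h4.trans hgh)
  have hh2 : h ≤ 2 * (f * b) := by
    rcases hh with e | e
    · nlinarith
    · have : b * a ≤ b * f := Nat.mul_le_mul_left b haf.le
      nlinarith
  have hbig : 3 * h ^ 2 ≤ 4 * g := by
    have := Nat.pow_le_pow_left hh2 2
    nlinarith
  have h1 : 1 ≤ h := by
    rcases Nat.eq_zero_or_pos h with e | e
    · subst e; simp at h3
    · exact e
  have hsum : S ≤ 9 * ((s + 3) * h) := by
    have e1 : 9 * ((s + 3) * h) = 9 * ((s + 1) * h) + 18 * h := by ring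
    have e2 : (s + 1) * (h - 1) + (s + 1) = (s + 1) * h := by
      rw [← Nat.mul_succ, Nat.succ_eq_add_one, Nat.sub_add_cancel h1]
    split_ifs at hS <;> omega
  have h66 : 99 * h ≤ 1800 * (s + 3) := by
    have : 66 * g ≤ 900 * ((s + 3) * h) := by omega
    refine Nat.le_of_mul_le_mul_right (?_ : 99 * h * h ≤ 1800 * (s + 3) * h) h1
    nlinarith
  have hs11 : s < 12 := by nlinarith
  have hh254 : h ≤ 254 := by omega
  have ha13 : a < 13 := by nlinarith
  obtain ⟨k, hk⟩ := h4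
  obtain ⟨i, rfl⟩ : ∃ i, k = i + 1 := ⟨k - 1, by omega⟩
  have hbh : b ∣ h := by
    rcases hh with e | e
    · exact (Nat.dvd_add_left (dvd_mul_right b a)).1 (e ▸ dvd_mul_right b f)
    · exact e ▸ Dvd.dvd.add (dvd_mul_right b f) (dvd_mul_right b a)
  have hb255 : b < 255 := by have := Nat.le_of_dvd h1 hbh; omega
  obtain ⟨d, hd⟩ := hbh
  have hdd : h / b = d := by rw [hd, Nat.mul_div_cancel_left _ hb]
  obtain ⟨c1, c2⟩ := cand_all ⟨i, by omega⟩ (by rw [← hk]; exact fun e => h3 (Nat.dvd_of_mod_eq_zero e))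
    ⟨b, hb255⟩ hb.ne' (by rw [← hk]; exact Nat.mod_eq_zero_of_dvd ⟨d, hd⟩) ⟨a, ha13⟩
    (by rw [← hk]; exact ha)
  simp only [← hk, hdd] at c1 c2
  have hok : candOk h b f = true := by
    rcases hh with e | e <;> rw [hd] at e
    · have : d + a = f := Nat.eq_of_mul_eq_mul_left hb (by rw [mul_add]; exact e)
      obtain rfl : f = a + d := by omega
      exact c1 haf
    · have : d = f + a := Nat.eq_of_mul_eq_mul_left hb (by rw [mul_add]; exact e)
      obtain rfl : f = d - a := by omega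
      exact c2 haf
  have hle := le_halfRoot hs11 hs
  unfold candOk at hok
  simp only [← hg] at hok
  rw [if_pos] at hok
  · simpa [or_assoc] using hok
  refine ⟨hf, hg4, Nat.mod_eq_zero_of_dvd hgh, hodd, fun e => hg9 (Nat.dvd_of_mod_eq_zero e), ?_⟩
  refine hmain.trans (Nat.add_le_add_right (Nat.mul_le_mul_left 100 ?_) _)
  refine hS.trans (Nat.add_le_add_left ?_ _)
  split_ifs
  · exact Nat.mul_le_mul_left 9 (Nat.mul_le_mul_right _ (by omega))
  · exact le_rfl

theorem ninetyone {s : Finset ℕ} (h1 : 2 ≤ s.card) (hs : ∀ o ∈ s, 7 ≤ o ∧ o % 6 = 1) :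
    91 * ∑ o ∈ s, o ≤ 20 * ∏ o ∈ s, o := by
  classical
  have hP : ∀ u : Finset ℕ, u.Nonempty → (∀ o ∈ u, 7 ≤ o) → ∑ o ∈ u, o ≤ ∏ o ∈ u, o ∧ 7 ≤ ∏ o ∈ u, o := by
    intro u hu
    induction hu using Finset.Nonempty.cons_induction with
    | singleton a => intro h; simp [h a (by simp)]
    | cons a u ha hu ih =>
      intro h
      obtain ⟨i1, i2⟩ := ih fun o ho => h o (Finset.mem_cons_of_mem ho)
      have h7 := h a (Finset.mem_cons_self a u)
      rw [Finset.sum_cons, Finset.prod_cons]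
      constructor <;> nlinarith
  obtain ⟨a, ha, ha13⟩ : ∃ a ∈ s, 13 ≤ a := by
    by_contra hno
    push Not at hno
    have hsub : s ⊆ {7} := fun o ho => Finset.mem_singleton.2 (by
      have := hno o ho; have := hs o ho; omega)
    have := Finset.card_le_card hsub
    simp at this
    omega
  have hne : (s.erase a).Nonempty := by
    rw [← Finset.card_pos, Finset.card_erase_of_mem ha]; omega
  obtain ⟨i1, i2⟩ := hP _ hne fun o ho => (hs o (Finset.mem_of_mem_erase ho)).1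
  rw [← Finset.add_sum_erase _ _ ha, ← Finset.mul_prod_erase _ _ ha]
  nlinarith

/-- The exceptional single odd class. -/
theorem single_cases {g o i : ℕ} (hg : g = 3 * o * i) (ho : o % 6 = 1) (ho7 : 7 ≤ o) (h4 : 4 ∣ g)
    (h5 : 5 ≤ i) (hi : i < 18) (hfac : g ∣ i.factorial)
    (hq : ∀ q, q.Prime → q ∣ o → i % q = 1) : g = 168 ∨ g = 1200 := by
  have hi4 : 4 ∣ i := by
    have : Nat.Coprime 4 (3 * o) := by
      rw [show 4 = 2 ^ 2 by norm_num]
      exact Nat.Coprime.pow_left 2 (Nat.prime_two.coprime_iff_not_dvd.2 (by omega))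
    exact this.dvd_of_dvd_mul_left (hg ▸ h4)
  have hof : o ∣ i.factorial := ((dvd_mul_left o 3).mul_right i |>.trans (hg ▸ hfac))
  have hodd : ∀ d : ℕ, d ∣ o → d % 2 = 1 := fun d hd => by
    by_contra h2
    have : 2 ∣ o := (Nat.dvd_of_mod_eq_zero (by omega)).trans hd
    omega
  have h3 : ¬ 3 ∣ o := by omega
  have key : ∀ q, q.Prime → q ∣ o → (i = 8 ∧ q = 7) ∨ (i = 12 ∧ q = 11) ∨ (i = 16 ∧ q = 5) := by
    intro q hqp hqo
    have h1 := hq q hqp hqo
    have hqi : q ≤ i := (Nat.Prime.dvd_factorial hqp).1 (hqo.trans hof)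
    have := hodd q hqo
    have := hqp.two_le
    have hq3 : q ≠ 3 := fun e => h3 (e ▸ hqo)
    obtain ⟨k, rfl⟩ := hi4
    have hk4 : k ≤ 4 := by omega
    interval_cases k <;> interval_cases q <;> first | omega | (norm_num at hqp)
  obtain ⟨q, hqp, hqo⟩ := Nat.exists_prime_and_dvd (show o ≠ 1 by omega)
  have hpow : o = q ^ o.factorization q := by
    refine Nat.eq_of_factorization_eq (by omega) (pow_ne_zero _ hqp.ne_zero) fun p => ?_
    rw [hqp.factorization_pow, Finsupp.single_apply]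
    split_ifs with e
    · rw [e]
    · refine Finsupp.notMem_support_iff.1 fun hp => e ?_
      rw [Nat.support_factorization, Nat.mem_primeFactors] at hp
      rcases key q hqp hqo with ⟨e1, e2⟩ | ⟨e1, e2⟩ | ⟨e1, e2⟩ <;>
        rcases key p hp.1 hp.2.1 with ⟨e3, e4⟩ | ⟨e3, e4⟩ | ⟨e3, e4⟩ <;> omega
  set k := o.factorization q
  rcases key q hqp hqo with ⟨e1, e2⟩ | ⟨e1, e2⟩ | ⟨e1, e2⟩ <;> subst e1 e2
  · left
    have : k < 2 := by
      by_contra hk
      have := ((pow_dvd_pow 7 (show 2 ≤ k by omega)).trans (hpow ▸ dvd_refl o)).trans hof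
      norm_num [Nat.factorial] at this
    interval_cases k <;> omega
  · exfalso
    have : k < 2 := by
      by_contra hk
      have := ((pow_dvd_pow 11 (show 2 ≤ k by omega)).trans (hpow ▸ dvd_refl o)).trans hof
      norm_num [Nat.factorial] at this
    interval_cases k <;> omega
  · right
    have : k < 4 := by
      by_contra hk
      have := ((pow_dvd_pow 5 (show 4 ≤ k by omega)).trans (hpow ▸ dvd_refl o)).trans hof
      norm_num [Nat.factorial] at this
    interval_cases k <;> omega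

theorem no_twelve_hundred {f b : ℕ} (hf : 2 ≤ f) (h : 1200 = 3 * f * (f + 1) * b ^ 2) : False := by
  have hb : 0 < b := Nat.pos_of_ne_zero fun e => by simp [e] at h
  have h1 : 1 ≤ b ^ 2 := Nat.one_le_pow _ _ hb
  have hf20 : f < 21 := by
    by_contra hc
    have : 462 ≤ f * (f + 1) := Nat.mul_le_mul (show 21 ≤ f by omega) (show 22 ≤ f + 1 by omega)
    nlinarith
  have hb21 : b < 21 := by
    by_contra hc
    have : 441 ≤ b ^ 2 := Nat.pow_le_pow_left (show 21 ≤ b by omega) 2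
    have : 6 ≤ f * (f + 1) := Nat.mul_le_mul (show 2 ≤ f by omega) (show 3 ≤ f + 1 by omega)
    nlinarith
  interval_cases f <;> interval_cases b <;> norm_num at h

theorem no_twenty_four {f b g : ℕ} (hf : 2 ≤ f) (h : g = 3 * f * (f + 1) * b ^ 2) (h4 : 4 ∣ g)
    (h9 : ¬ 9 ∣ g) : 36 < g := by
  have hb : 0 < b := Nat.pos_of_ne_zero fun e => by simp [e] at h; subst h; simp at h9
  have h1 : 1 ≤ b ^ 2 := Nat.one_le_pow _ _ hb
  rcases Nat.lt_or_ge f 3 with h3 | h3
  · obtain rfl : f = 2 := by omega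
    exact absurd (h ▸ ⟨2 * b ^ 2, by ring⟩) h9
  · have h12 : 12 ≤ f * (f + 1) := Nat.mul_le_mul h3 (show 4 ≤ f + 1 by omega)
    have : 36 ≤ g := by nlinarith
    rcases Nat.lt_or_ge 36 g with h' | h'
    · exact h'
    · exact absurd ⟨4, by omega⟩ h9

theorem no_eight_sixteen {f b a h s : ℕ} (hf : 2 ≤ f) (hb : 0 < b)
    (hg : 816 = 3 * f * (f + 1) * b ^ 2) (hh : h + b * a = b * f ∨ h = b * f + b * a) (haf : a < f)
    (h4 : 4 ∣ h) (hgh : h ∣ 816) (hodd : 816 / h % 2 = 1) (hs : 2 * s ^ 2 ≤ h)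
    (hS : 816 + 3 * b ^ 2 ≤ 9 + 18 * (h - 1) + 9 * ((s + 1) * (h - 1))) : False := by
  have h1 : 1 ≤ b ^ 2 := Nat.one_le_pow _ _ hb
  have hf17 : f < 17 := by
    by_contra hc
    have : 306 ≤ f * (f + 1) := Nat.mul_le_mul (show 17 ≤ f by omega) (show 18 ≤ f + 1 by omega)
    nlinarith
  have hb7 : b < 7 := by
    by_contra hc
    have : 49 ≤ b ^ 2 := Nat.pow_le_pow_left (show 7 ≤ b by omega) 2
    have : 6 ≤ f * (f + 1) := Nat.mul_le_mul (show 2 ≤ f by omega) (show 3 ≤ f + 1 by omega)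
    nlinarith
  obtain ⟨rfl, rfl⟩ : f = 16 ∧ b = 1 := by
    interval_cases f <;> interval_cases b <;> first | (norm_num at hg; done) | exact ⟨rfl, rfl⟩
  have hh32 : h < 32 := by omega
  have hh16 : h = 16 := by
    obtain ⟨k, rfl⟩ := h4
    have hk : k < 8 := by omega
    interval_cases k <;> omega
  subst hh16
  have hs3 : s < 3 := by nlinarith
  interval_cases s <;> norm_num at hS

end CfsgLib.SelfThree
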