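import Cfsg.Agent.SelfThree.Maximal
import Cfsg.Agent.SelfThree.Chars
import Cfsg.Agent.SelfThree.Arith

/-!
Counting over the maximal invariant subgroups: the order of the simple group is 60 or 168.
-/

set_option autoImplicit false
set_option linter.style.haveILetI false

namespace CfsgLib.SelfThree

open Subgroup CfsgLib.NilpotentPart

universe u

variable {G : Type u} [Group G] [Finite G] {x t : G}

theorem card_centralizer_of_isConj {u v : G} (h : IsConj u v) :
    Nat.card (centralizer ({u} : Set G)) = Nat.card (centralizer ({v} : Set G)) := by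
  obtain ⟨c, rfl⟩ := isConj_iff.1 h
  refine Nat.card_congr
    { toFun := fun z => ⟨c * z * c⁻¹, mem_centralizer_singleton_iff.2 ?_⟩
      invFun := fun z => ⟨c⁻¹ * z * c, mem_centralizer_singleton_iff.2 ?_⟩
      left_inv := fun z => Subtype.ext (by group)
      right_inv := fun z => Subtype.ext (by group) }
  · have e : (z : G) * u = u * z := mem_centralizer_singleton_iff.1 z.2
    calc c * z * c⁻¹ * (c * u * c⁻¹) = c * ((z : G) * u) * c⁻¹ := by group
      _ = c * u * c⁻¹ * (c * z * c⁻¹) := by rw [e]; group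
  · have e : (z : G) * (c * u * c⁻¹) = c * u * c⁻¹ * z := mem_centralizer_singleton_iff.1 z.2
    calc c⁻¹ * z * c * u = c⁻¹ * ((z : G) * (c * u * c⁻¹)) * c := by group
      _ = u * (c⁻¹ * z * c) := by rw [e]; group

/-- A nilpotent subgroup of even order has a central involution. -/
theorem exists_central_involution {M : Subgroup G} (hn : Group.IsNilpotent M)
    (h2 : 2 ∣ Nat.card M) : ∃ u ∈ M, orderOf u = 2 ∧ M ≤ centralizer ({u} : Set G) := by
  haveI : Fact (Nat.Prime 2) := ⟨Nat.prime_two⟩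
  set P := part M 2
  haveI : Nontrivial P := nontrivial_iff_ne_bot P |>.2 (part_ne_bot hn h2)
  haveI := (isPGroup_part (A := M) (p := 2)).center_nontrivial
  have hd : 2 ∣ Nat.card (center P) := by
    obtain ⟨n, hn'⟩ := IsPGroup.iff_card.1
      ((isPGroup_part (A := M) (p := 2)).to_subgroup (center P))
    have h1 : 1 < Nat.card (center P) := Finite.one_lt_card
    rcases n with _ | n
    · rw [hn'] at h1; simp at h1
    · rw [hn']; exact dvd_pow_self 2 (by omega)
  obtain ⟨w, hw⟩ := exists_prime_orderOf_dvd_card' (G := center P) 2 hd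
  refine ⟨((w : P) : G), part_le M 2 (w : P).2, by rw [orderOf_coe, orderOf_coe, hw], ?_⟩
  refine le_of_parts_le hn fun q hq a ha => ?_
  haveI := Fact.mk hq
  rw [mem_centralizer_singleton_iff]
  by_cases hq2 : q = 2
  · subst hq2
    exact congrArg Subtype.val (mem_center_iff.1 w.2 ⟨a, ha⟩)
  · obtain ⟨k, hk⟩ := IsPGroup.iff_orderOf.1 (isPGroup_part (A := M) (p := q)) ⟨a, ha⟩
    rw [Subgroup.orderOf_mk] at hk
    refine (commute_part (p := 2) hn (part_le M q ha) (w : P).2 ?_).eq
    rw [hk]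
    exact ((Nat.coprime_primes hq Nat.prime_two).2 hq2).pow_left k

theorem card_conj (M : Subgroup G) (a : G) :
    Nat.card (M.map (MulAut.conj a).toMonoidHom) = Nat.card M :=
  card_map_of_injective (MulAut.conj a).injective

namespace Setting

variable (S : Setting x t)
include S

theorem one_lt_card {M : Subgroup G} (hM : IsMax x M) : 4 ≤ Nat.card M := by
  have h1 := S.sc.card_mod_three hM.inv
  have h2 : Nat.card M ≠ 1 := fun e => hM.ne_bot (eq_bot_of_card_eq _ e)
  omega

/-- Same odd prime: equal or conjugate by `t`. -/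
theorem odd_related {M M' : Subgroup G} (hM : IsMax x M) (hM' : IsMax x M') {q : ℕ}
    (hq : q.Prime) (hq2 : q ≠ 2) (hd : q ∣ Nat.card M) (hd' : q ∣ Nat.card M') :
    M' = M ∨ M' = M.map (MulAut.conj t).toMonoidHom :=
  haveI := Fact.mk hq
  S.common_full hM hM' hd hd' (Or.inl hq2) (Or.inl hq2)

theorem odd_same_card {M M' : Subgroup G} (hM : IsMax x M) (hM' : IsMax x M') {q : ℕ}
    (hq : q.Prime) (hq2 : q ≠ 2) (hd : q ∣ Nat.card M) (hd' : q ∣ Nat.card M') :
    Nat.card M' = Nat.card M := by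
  rcases S.odd_related hM hM' hq hq2 hd hd' with e | e <;> rw [e]
  exact card_conj M t

theorem two_mul_card_le {M : Subgroup G} (hM : IsMax x M) (h2 : 2 ∣ Nat.card M)
    (hclass : ∀ s : G, orderOf s = 2 → IsConj t s) :
    Nat.card M ≤ Nat.card (centralizer ({t} : Set G)) ∧
      (t ∈ normalizer (M : Set G) → 2 * Nat.card M ∣ Nat.card (centralizer ({t} : Set G))) := by
  obtain ⟨v, hv, hv2, hvc⟩ := exists_central_involution (S.sc.isNilpotent hM.inv) h2
  refine ⟨?_, fun ht => ?_⟩
  · rw [card_centralizer_of_isConj (hclass v hv2)]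
    exact card_le_of_le hvc
  · have hv' : t * v * t⁻¹ ∈ M := mem_normalizer_conj ht hv
    have hvv : v * v = 1 := by rw [← pow_two, ← hv2, pow_orderOf_eq_one]
    have hc : ∀ m ∈ M, m * v = v * m := fun m hm =>
      mem_centralizer_singleton_iff.1 (hvc hm)
    obtain ⟨u, hu2, huc, htu⟩ : ∃ u : G, orderOf u = 2 ∧ M ≤ centralizer ({u} : Set G) ∧
        t * u = u * t := by
      by_cases hfix : t * v * t⁻¹ = v
      · exact ⟨v, hv2, hvc, mul_inv_eq_iff_eq_mul.1 hfix⟩
      · have hc' : ∀ m ∈ M, m * (t * v * t⁻¹) = t * v * t⁻¹ * m := by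
          intro m hm
          have h1 := hc _ (mem_normalizer_conj (inv_mem ht) hm)
          calc m * (t * v * t⁻¹) = t * ((t⁻¹ * m * t⁻¹⁻¹) * v) * t⁻¹ := by group
            _ = t * v * t⁻¹ * m := by rw [h1]; group
        refine ⟨v * (t * v * t⁻¹), orderOf_eq_prime (p := 2) ?_ ?_, fun m hm => ?_, ?_⟩
        · rw [pow_two]
          calc v * (t * v * t⁻¹) * (v * (t * v * t⁻¹))
              = v * (t * v * t⁻¹ * v) * (t * v * t⁻¹) := by group
            _ = v * (v * (t * v * t⁻¹)) * (t * v * t⁻¹) := by rw [hc' v hv]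
            _ = (v * v) * (t * (v * v) * t⁻¹) := by group
            _ = 1 := by rw [hvv]; group
        · intro e
          exact hfix ((eq_inv_of_mul_eq_one_right e).trans (inv_eq_of_mul_eq_one_right hvv))
        · rw [mem_centralizer_singleton_iff, ← mul_assoc, hc m hm, mul_assoc, hc' m hm, mul_assoc]
          simp only [mul_assoc]
        · calc t * (v * (t * v * t⁻¹)) = (t * v * t⁻¹) * ((t * t) * v * (t * t)⁻¹) * t := by group
            _ = (t * v * t⁻¹) * v * t := by rw [S.inv.mul_self]; group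
            _ = _ := by rw [hc _ hv']
    rw [card_centralizer_of_isConj (hclass u hu2)]
    exact S.inv.two_mul_card_dvd S.sc hM.inv ht huc (mem_centralizer_singleton_iff.2 htu)

theorem card_eq_sq {M : Subgroup G} (hM : IsMax x M) (ht : t ∈ normalizer (M : Set G)) :
    Nat.card M = Nat.card (M ⊓ centralizer {t} : Subgroup G) ^ 2 :=
  le_antisymm (card_le_sq S.sc S.inv hM.inv ht) (sq_le_card S.sc S.inv hM.inv)

section Sums

open scoped Classical

/-- The pairs are covered by the maximal subgroups. -/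
theorem card_pairSet_le (Mx : Finset (Subgroup G)) (hMx : ∀ M, IsMax x M → M ∈ Mx) :
    Nat.card (pairSet x) ≤ 1 + ∑ M ∈ Mx, (Nat.card M - 1) := by
  haveI := Fintype.ofFinite G
  let T : Finset G := insert 1 (Mx.biUnion fun M => (Finset.univ.filter (· ∈ M)).erase 1)
  have h1 : Nat.card (pairSet x) ≤ T.card := by
    rw [← Fintype.card_coe, ← Nat.card_eq_fintype_card]
    refine Nat.card_le_card_of_injective (fun y => (⟨(y : G) * x, ?_⟩ : {a // a ∈ T})) fun a b e => ?_
    · simp only [T, Finset.mem_insert, Finset.mem_biUnion, Finset.mem_erase, Finset.mem_filter,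
        Finset.mem_univ, true_and]
      by_cases e1 : (y : G) * x = 1
      · exact Or.inl e1
      obtain ⟨U, hU, hyU⟩ := S.sc.exists_inv_of_pair y.2.1 y.2.2
      obtain ⟨M, hM, hUM⟩ := exists_max hU fun e => e1 (by rwa [e, mem_bot] at hyU)
      exact Or.inr ⟨M, hMx M hM, e1, hUM hyU⟩
    · exact Subtype.ext (mul_right_cancel (congrArg Subtype.val e))
  refine h1.trans ((Finset.card_insert_le _ _).trans ?_)
  rw [add_comm]
  refine Nat.add_le_add_left (Finset.card_biUnion_le.trans (le_of_eq ?_)) 1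
  refine Finset.sum_congr rfl fun M _ => ?_
  rw [Finset.card_erase_of_mem (by simp), Nat.card_eq_fintype_card, Fintype.card_subtype]

/-- The even classes normalised by `t`. -/
theorem sum_even_fixed {h : ℕ} (hh : Nat.card (centralizer ({t} : Set G)) = h)
    (hclass : ∀ s : G, orderOf s = 2 → IsConj t s) (E : Finset (Subgroup G))
    (hE : ∀ M ∈ E, IsMax x M ∧ 2 ∣ Nat.card M ∧ t ∈ normalizer (M : Set G)) :
    ∑ M ∈ E, (Nat.card M - 1) ≤ if Nat.card G % 8 = 0 then (Nat.sqrt (h / 2) + 1) * (h - 1) else 0 := by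
  haveI := Fintype.ofFinite G
  rcases E.eq_empty_or_nonempty with rfl | ⟨M0, hM0⟩
  · simp
  have h8 : Nat.card G % 8 = 0 := by
    obtain ⟨hM, h2, ht⟩ := hE M0 hM0
    have hd := ((S.two_mul_card_le hM h2 hclass).2 ht).trans (card_subgroup_dvd_card _)
    have e := S.card_eq_sq hM ht
    rw [e] at hd h2
    have h2' := Nat.prime_two.dvd_of_dvd_pow h2
    exact Nat.mod_eq_zero_of_dvd ((Nat.mul_dvd_mul_left 2 (pow_dvd_pow_of_dvd h2' 2)).trans hd)
  rw [if_pos h8]
  set c : Subgroup G → ℕ := fun M => Nat.card (M ⊓ centralizer {t} : Subgroup G)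
  have hterm : ∀ M ∈ E, Nat.card M - 1 ≤ (Nat.sqrt (h / 2) + 1) * (c M - 1) := by
    intro M hM
    obtain ⟨hM', h2, ht⟩ := hE M hM
    have e := S.card_eq_sq hM' ht
    have hd := Nat.le_of_dvd Nat.card_pos ((S.two_mul_card_le hM' h2 hclass).2 ht)
    rw [hh] at hd
    change Nat.card M = c M ^ 2 at e
    rw [e] at hd ⊢
    have hs : c M ≤ Nat.sqrt (h / 2) := Nat.le_sqrt'.2 (by omega)
    rcases Nat.eq_zero_or_pos (c M) with h0 | h0
    · simp [h0]
    obtain ⟨k, hk⟩ : ∃ k, c M = k + 1 := ⟨c M - 1, by omega⟩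
    rw [hk] at hs ⊢
    have : (k + 1) ^ 2 - 1 = (k + 2) * k := by
      have : (k + 1) ^ 2 = (k + 2) * k + 1 := by ring
      omega
    rw [this, Nat.add_sub_cancel]
    exact Nat.mul_le_mul_right k (by omega)
  refine (Finset.sum_le_sum hterm).trans ?_
  rw [← Finset.mul_sum]
  refine Nat.mul_le_mul_left _ ?_
  have hd : (E : Set (Subgroup G)).PairwiseDisjoint fun M =>
      (Finset.univ.filter (· ∈ M ⊓ centralizer ({t} : Set G))).erase 1 := by
    intro A hA B hB hne
    refine Finset.disjoint_left.2 fun a ha hb => ?_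
    simp only [Finset.mem_erase, Finset.mem_filter, Finset.mem_univ, true_and, mem_inf] at ha hb
    have := S.inf_eq_bot (hE A hA).1 (hE B hB).1 (hE A hA).2.2 (hE B hB).2.2 hne
    exact ha.1 (mem_bot.1 (this.le (mem_inf.2 ⟨ha.2.1, hb.2.1⟩)))
  have h2 : ∑ M ∈ E, (c M - 1) =
      (E.biUnion fun M => (Finset.univ.filter (· ∈ M ⊓ centralizer ({t} : Set G))).erase 1).card := by
    rw [Finset.card_biUnion hd]
    refine Finset.sum_congr rfl fun M _ => ?_
    rw [Finset.card_erase_of_mem (by simp), ← Fintype.card_subtype, ← Nat.card_eq_fintype_card]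
  rw [h2, ← hh]
  refine (Finset.card_le_card (t := (Finset.univ.filter (· ∈ centralizer ({t} : Set G))).erase 1) ?_).trans
    (le_of_eq ?_)
  · intro a ha
    simp only [Finset.mem_biUnion, Finset.mem_erase, Finset.mem_filter, Finset.mem_univ, true_and,
      mem_inf] at ha ⊢
    obtain ⟨M, -, h1, -, h2⟩ := ha
    exact ⟨h1, h2⟩
  · rw [Finset.card_erase_of_mem (by simp), ← Fintype.card_subtype, ← Nat.card_eq_fintype_card]

/-- The even classes moved by `t`. -/
theorem sum_even_moved {h : ℕ} (hh : Nat.card (centralizer ({t} : Set G)) = h)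
    (hclass : ∀ s : G, orderOf s = 2 → IsConj t s) (E : Finset (Subgroup G))
    (hE : ∀ M ∈ E, IsMax x M ∧ 2 ∣ Nat.card M ∧ t ∉ normalizer (M : Set G)) :
    ∑ M ∈ E, (Nat.card M - 1) ≤ 2 * (h - 1) := by
  rcases E.eq_empty_or_nonempty with rfl | ⟨M0, hM0⟩
  · simp
  have hsub : E ⊆ {M0, M0.map (MulAut.conj t).toMonoidHom} := by
    intro M hM
    haveI : Fact (Nat.Prime 2) := ⟨Nat.prime_two⟩
    obtain ⟨a1, a2, a3⟩ := hE M0 hM0
    obtain ⟨b1, b2, b3⟩ := hE M hM
    rcases S.common_full a1 b1 a2 b2 (Or.inr a3) (Or.inr b3) with e | e <;> simp [e]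
  have hcard : E.card ≤ 2 := (Finset.card_le_card hsub).trans Finset.card_le_two
  refine (Finset.sum_le_card_nsmul E _ (h - 1) fun M hM => ?_).trans ?_
  · obtain ⟨b1, b2, b3⟩ := hE M hM
    have := (S.two_mul_card_le b1 b2 hclass).1
    omega
  · exact Nat.mul_le_mul_right _ hcard

theorem odd_facts {M : Subgroup G} (hM : IsMax x M) (h2 : ¬ 2 ∣ Nat.card M) :
    Nat.card M % 6 = 1 ∧ 7 ≤ Nat.card M := by
  have h1 := S.sc.card_mod_three hM.inv
  have h4 := S.one_lt_card hM
  omega

/-- The odd classes. -/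
theorem sum_odd (h36 : 36 < Nat.card G) (h4 : 4 ∣ Nat.card G)
    (h1200 : Nat.card G ≠ 1200) (h168 : Nat.card G ≠ 168) (E : Finset (Subgroup G))
    (hE : ∀ M ∈ E, IsMax x M ∧ ¬ 2 ∣ Nat.card M) :
    900 * ∑ M ∈ E, (Nat.card M - 1) ≤ 34 * Nat.card G := by
  haveI := Fintype.ofFinite G
  set g := Nat.card G
  set O := E.image fun M : Subgroup G => Nat.card M with hO
  have hOmem : ∀ o ∈ O, o % 6 = 1 ∧ 7 ≤ o := fun o ho => by
    obtain ⟨M, hM, rfl⟩ := Finset.mem_image.1 ho
    exact S.odd_facts (hE M hM).1 (hE M hM).2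
  -- classes of equal order
  have hfib : ∀ M ∈ E, (E.filter fun N : Subgroup G => Nat.card N = Nat.card M) ⊆
      {M, M.map (MulAut.conj t).toMonoidHom} := by
    intro M hM N hN
    obtain ⟨hNE, hNc⟩ := Finset.mem_filter.1 hN
    obtain ⟨hM', hM2⟩ := hE M hM
    obtain ⟨q, hq, hqM⟩ := Nat.exists_prime_and_dvd
      (show Nat.card M ≠ 1 by have := S.one_lt_card hM'; omega)
    have hq2 : q ≠ 2 := fun e => hM2 (e ▸ hqM)
    rcases S.odd_related hM' (hE N hNE).1 hq hq2 hqM (hNc ▸ hqM) with e | e <;> simp [e]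
  have hsum : ∑ M ∈ E, (Nat.card M - 1) =
      ∑ o ∈ O, (E.filter fun N : Subgroup G => Nat.card N = o).card * (o - 1) := by
    rw [hO, Finset.sum_comp (fun o => o - 1) (fun M : Subgroup G => Nat.card M)]
    rfl
  rcases Nat.lt_or_ge 1 O.card with hmany | hone
  · have h2 : ∑ M ∈ E, (Nat.card M - 1) ≤ 2 * ∑ o ∈ O, o := by
      rw [hsum, Finset.mul_sum]
      refine Finset.sum_le_sum fun o ho => Nat.mul_le_mul ?_ (Nat.sub_le o 1)
      obtain ⟨M, hM, rfl⟩ := Finset.mem_image.1 ho
      exact (Finset.card_le_card (hfib M hM)).trans Finset.card_le_two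
    have h91 := ninetyone hmany fun o ho => ⟨(hOmem o ho).2, (hOmem o ho).1⟩
    have hcop : (O : Set ℕ).Pairwise (Function.onFun Nat.Coprime fun o : ℕ => o) := by
      intro a ha b hb hne
      obtain ⟨A, hA, rfl⟩ := Finset.mem_image.1 ha
      obtain ⟨B, hB, rfl⟩ := Finset.mem_image.1 hb
      show Nat.Coprime _ _
      by_contra hn
      obtain ⟨q, hq, hqA, hqB⟩ := Nat.Prime.not_coprime_iff_dvd.1 hn
      exact hne (S.odd_same_card (hE A hA).1 (hE B hB).1 hq
        (fun e => (hE A hA).2 (e ▸ hqA)) hqA hqB).symm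
    have hdvd : ∏ o ∈ O, o ∣ g := by
      refine Finset.prod_dvd_of_isRelPrime ?_ fun o ho => ?_
      · intro a ha b hb hne
        exact Nat.coprime_iff_isRelPrime.1 (hcop ha hb hne)
      · obtain ⟨M, -, rfl⟩ := Finset.mem_image.1 ho
        exact card_subgroup_dvd_card M
    have h12 : 12 ∣ g := by
      haveI : Fact (Nat.Prime 3) := ⟨Nat.prime_three⟩
      exact Nat.Coprime.mul_dvd_of_dvd_of_dvd (by norm_num : Nat.Coprime 4 3) h4 S.sc.three_dvd
    have hcop12 : Nat.Coprime 12 (∏ o ∈ O, o) := Nat.Coprime.prod_right fun o ho => by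
      have := (hOmem o ho).1
      rw [show (12 : ℕ) = 2 ^ 2 * 3 by norm_num]
      refine Nat.Coprime.mul_left (Nat.Coprime.pow_left 2 ?_) ?_
      · exact Nat.prime_two.coprime_iff_not_dvd.2 (by omega)
      · exact Nat.prime_three.coprime_iff_not_dvd.2 (by omega)
    have h3 := Nat.le_of_dvd Nat.card_pos (hcop12.mul_dvd_of_dvd_of_dvd h12 hdvd)
    omega
  -- at most one class
  rcases E.eq_empty_or_nonempty with rfl | ⟨M, hM⟩
  · simp
  obtain ⟨hM', hM2⟩ := hE M hM
  obtain ⟨ho6, ho7⟩ := S.odd_facts hM' hM2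
  have hEsub : E ⊆ {M, M.map (MulAut.conj t).toMonoidHom} := fun N hN =>
    hfib M hM (Finset.mem_filter.2 ⟨hN, Finset.card_le_one.1 hone _
      (Finset.mem_image_of_mem _ hN) _ (Finset.mem_image_of_mem _ hM)⟩)
  set o := Nat.card M
  have hconst : ∀ N ∈ E, Nat.card N - 1 = o - 1 := fun N hN => by
    rcases Finset.mem_insert.1 (hEsub hN) with e | e
    · rw [e]
    · rw [Finset.mem_singleton.1 e, card_conj]
  rw [Finset.sum_congr rfl hconst, Finset.sum_const, smul_eq_mul]
  set N := normalizer (M : Set G)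
  have hNtop : N ≠ ⊤ := S.normalizer_ne_top hM'.inv.1 hM'.ne_bot
  haveI := S.simp
  have hfac := CfsgLib.SmallSimple.card_dvd_factorial N hNtop
  have hi5 : 5 ≤ N.index := by
    by_contra hlt
    have := Nat.le_of_dvd (Nat.factorial_pos _) hfac
    have : N.index.factorial ≤ Nat.factorial 4 := Nat.factorial_le (by omega)
    norm_num [Nat.factorial] at this
    omega
  have hmul : Nat.card N * N.index = g := N.card_mul_index
  rcases (S.max_data hM').1 with e3 | e6
  · -- moved by `t`
    rw [e3] at hmul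
    have hcard : E.card ≤ 2 := (Finset.card_le_card hEsub).trans Finset.card_le_two
    rcases Nat.lt_or_ge N.index 18 with hlt | hge
    · have hq : ∀ q, q.Prime → q ∣ o → N.index % q = 1 := by
        intro q hq hqo
        haveI := Fact.mk hq
        let P : Sylow q G := Sylow.ofCard (part M q)
          (S.card_part_full hM' hqo (Or.inl fun e => hM2 (e ▸ hqo)))
        have h1 : Nat.card (Sylow q G) ≡ 1 [MOD q] := card_sylow_modEq_one q G
        rw [P.card_eq_index_normalizer] at h1
        have h2 : normalizer (P : Set G) = N := S.normalizer_part_eq hM' hqo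
        rw [h2] at h1
        have h3 : N.index % q = 1 % q := h1
        rw [h3, Nat.mod_eq_of_lt hq.one_lt]
      rcases single_cases hmul.symm ho6 ho7 h4 hi5 hlt hfac hq with e | e
      · exact absurd e h168
      · exact absurd e h1200
    · have h5 : 54 * o ≤ g := by
        rw [← hmul]
        calc 54 * o = 3 * o * 18 := by ring
          _ ≤ 3 * o * N.index := Nat.mul_le_mul_left _ hge
      have := Nat.mul_le_mul hcard (le_refl (o - 1))
      omega
  · -- fixed by `t`
    have ht := (S.t_mem_iff hM').2 e6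
    rw [e6] at hmul
    rw [map_conj_self ht, Finset.pair_eq_singleton] at hEsub
    have hcard : E.card ≤ 1 := (Finset.card_le_card hEsub).trans (by simp)
    have h5 : 30 * o ≤ g := by
      rw [← hmul]
      calc 30 * o = 6 * o * 5 := by ring
        _ ≤ 6 * o * N.index := Nat.mul_le_mul_left _ hi5
    have := Nat.mul_le_mul hcard (le_refl (o - 1))
    omega

theorem simple_order : Nat.card G = 60 ∨ Nat.card G = 168 := by
  haveI := Fintype.ofFinite G
  haveI := S.simp
  haveI : Fact (Nat.Prime 2) := ⟨Nat.prime_two⟩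
  haveI : Fact (Nat.Prime 3) := ⟨Nat.prime_three⟩
  obtain ⟨f, b, a, hf, hb, hg, hN, hhfa, haf, ha, hclass⟩ :=
    exists_invariants S.sc S.nonab S.inv.ord S.inv.conj
  set g := Nat.card G with hgd
  set h := Nat.card (centralizer ({t} : Set G)) with hhd
  have hg9 : ¬ 9 ∣ g := S.sc.not_nine_dvd
  have h2g : 2 ∣ g := S.inv.ord ▸ _root_.orderOf_dvd_natCard t
  obtain ⟨P⟩ : Nonempty (Sylow 2 G) := Sylow.nonempty
  have hP2 : 2 ∣ Nat.card (P : Subgroup G) := P.dvd_card_of_dvd_card h2g
  haveI : Nontrivial (P : Subgroup G) := by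
    rw [← Finite.one_lt_card_iff_nontrivial]
    exact Nat.le_of_dvd Nat.card_pos hP2
  have h4 : 4 ∣ g := by
    obtain ⟨k, hk⟩ := IsPGroup.iff_card.1 P.2
    rcases Nat.lt_or_ge k 2 with hk2 | hk2
    · exfalso
      have hk1 : k = 1 := by
        rcases Nat.eq_zero_or_pos k with e | e
        · rw [hk, e] at hP2; norm_num at hP2
        · omega
      rw [hk1, pow_one] at hk
      have hPg : Nat.card (P : Subgroup G) < g := by
        have h1 := S.sc.three_dvd
        have h2 := Nat.le_of_dvd Nat.card_pos h1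
        omega
      refine CfsgLib.SmallSimple.not_le_centralizer P (by omega) hPg fun n hn => ?_
      refine mem_centralizer_iff.2 fun a ha => ?_
      by_cases ha1 : a = 1
      · rw [ha1, one_mul, mul_one]
      have huniq : ∀ c ∈ (P : Subgroup G), c ≠ 1 → c = a := by
        intro c hc hc1
        by_contra hne
        have hsub : ({1, a, c} : Finset G) ⊆ Finset.univ.filter (· ∈ (P : Subgroup G)) := by
          intro z hz
          simp only [Finset.mem_insert, Finset.mem_singleton] at hz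
          rcases hz with rfl | rfl | rfl <;> simp [hc, one_mem] <;> exact ha
        have := Finset.card_le_card hsub
        rw [← Fintype.card_subtype, ← Nat.card_eq_fintype_card, hk,
          Finset.card_insert_of_notMem (by simp [Ne.symm ha1, Ne.symm hc1]),
          Finset.card_insert_of_notMem (by simp [Ne.symm hne]), Finset.card_singleton] at this
        omega
      have := huniq _ ((mem_normalizer_iff.1 hn a).1 ha) fun e => ha1 (conj_eq_one_iff.1 e)
      exact (mul_inv_eq_iff_eq_mul.1 this).symm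
    · have : 2 ^ 2 ∣ Nat.card (P : Subgroup G) := by rw [hk]; exact pow_dvd_pow 2 hk2
      exact this.trans (card_subgroup_dvd_card _)
  have hPh : Nat.card (P : Subgroup G) ∣ h := by
    haveI := P.2.center_nontrivial
    obtain ⟨n, hn⟩ := IsPGroup.iff_card.1 (P.2.to_subgroup (center (P : Subgroup G)))
    have hd : 2 ∣ Nat.card (center (P : Subgroup G)) := by
      have h1 : 1 < Nat.card (center (P : Subgroup G)) := Finite.one_lt_card
      rcases n with _ | n
      · rw [hn] at h1; simp at h1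
      · rw [hn]; exact dvd_pow_self 2 (by omega)
    obtain ⟨w, hw⟩ := exists_prime_orderOf_dvd_card' (G := center (P : Subgroup G)) 2 hd
    have ho : orderOf ((w : (P : Subgroup G)) : G) = 2 := by rw [orderOf_coe, orderOf_coe, hw]
    rw [hhd, card_centralizer_of_isConj (hclass _ ho)]
    exact card_dvd_of_le fun a ha => mem_centralizer_singleton_iff.2
      (congrArg Subtype.val (mem_center_iff.1 w.2 ⟨a, ha⟩))
  have hgh : h ∣ g := card_subgroup_dvd_card _
  have hodd : g / h % 2 = 1 := by
    by_contra hne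
    have h2q : 2 ∣ g / h := Nat.dvd_of_mod_eq_zero (by omega)
    obtain ⟨k, hk⟩ := IsPGroup.iff_card.1 P.2
    have hd : 2 ^ (k + 1) ∣ g := by
      rw [← Nat.mul_div_cancel' hgh, pow_succ]
      exact Nat.mul_dvd_mul (hk ▸ hPh) h2q
    have hv : 2 ^ ((Nat.card G).factorization 2) = 2 ^ k := by rw [← hk, P.card_eq_multiplicity]
    have hv' : (Nat.card G).factorization 2 = k := Nat.pow_right_injective le_rfl hv
    have := (Nat.prime_two.pow_dvd_iff_le_factorization Nat.card_pos.ne').1 hd
    omega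
  have h4h : 4 ∣ h := by
    refine dvd_trans ?_ hPh
    obtain ⟨k, hk⟩ := IsPGroup.iff_card.1 P.2
    rw [hk, show (4 : ℕ) = 2 ^ 2 by norm_num]
    refine pow_dvd_pow 2 ?_
    have hv : (Nat.card G).factorization 2 = k :=
      Nat.pow_right_injective le_rfl (show 2 ^ (Nat.card G).factorization 2 = 2 ^ k by rw [← hk, P.card_eq_multiplicity])
    have := (Nat.prime_two.pow_dvd_iff_le_factorization Nat.card_pos.ne').1
      (show 2 ^ 2 ∣ g by norm_num; exact h4)
    omega
  have h3h : ¬ 3 ∣ h := fun hd => by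
    obtain ⟨⟨y, hy⟩, hyo⟩ := exists_prime_orderOf_dvd_card' (G := centralizer ({t} : Set G)) 3 hd
    rw [Subgroup.orderOf_mk] at hyo
    have h1 := (S.sc.sc_of_orderOf hyo).mem_of_commute (c := t)
      (mem_centralizer_singleton_iff.1 hy).symm
    have h2 := orderOf_dvd_natCard (⟨t, h1⟩ : zpowers y)
    rw [Subgroup.orderOf_mk, S.inv.ord, Nat.card_zpowers, hyo] at h2
    omega
  have h36 : 36 < g := no_twenty_four hf hg h4 hg9
  have h1200 : g ≠ 1200 := fun e => no_twelve_hundred hf (e ▸ hg)
  by_cases h168 : g = 168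
  · exact Or.inr h168
  set Mx := (Set.toFinite {M : Subgroup G | IsMax x M}).toFinset with hMx
  have hmem : ∀ M, M ∈ Mx ↔ IsMax x M := fun M => by simp [hMx]
  set Ev := Mx.filter fun M : Subgroup G => 2 ∣ Nat.card M
  set Od := Mx.filter fun M : Subgroup G => ¬ 2 ∣ Nat.card M
  have hsplit : ∑ M ∈ Mx, (Nat.card M - 1) =
      ∑ M ∈ Ev.filter (fun M : Subgroup G => t ∈ normalizer (M : Set G)), (Nat.card M - 1) +
      ∑ M ∈ Ev.filter (fun M : Subgroup G => ¬ t ∈ normalizer (M : Set G)), (Nat.card M - 1) +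
      ∑ M ∈ Od, (Nat.card M - 1) := by
    rw [Finset.sum_filter_add_sum_filter_not, Finset.sum_filter_add_sum_filter_not]
  have hE6 := S.sum_even_fixed hhd.symm hclass
    (Ev.filter fun M : Subgroup G => t ∈ normalizer (M : Set G)) fun M hM => by
      simp only [Ev, Finset.mem_filter, hmem] at hM; exact ⟨hM.1.1, hM.1.2, hM.2⟩
  have hE3 := S.sum_even_moved hhd.symm hclass
    (Ev.filter fun M : Subgroup G => ¬ t ∈ normalizer (M : Set G)) fun M hM => by
      simp only [Ev, Finset.mem_filter, hmem] at hM; exact ⟨hM.1.1, hM.1.2, hM.2⟩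
  have hpairs := S.card_pairSet_le Mx fun M hM => (hmem M).2 hM
  set s := Nat.sqrt (h / 2) with hsdef
  have hs2 : 2 * s ^ 2 ≤ h := by have := Nat.sqrt_le' (h / 2); rw [← hsdef] at this; omega
  set T := 9 + 18 * (h - 1) + if g % 8 = 0 then 9 * ((s + 1) * (h - 1)) else 0 with hT
  have hbound : g + 3 * b ^ 2 ≤ T + 9 * ∑ M ∈ Od, (Nat.card M - 1) := by
    rw [hsplit] at hpairs
    rw [hT]
    split_ifs at hE6 ⊢ <;> omega
  have hOd := S.sum_odd h36 h4 h1200 h168 Od fun M hM => by
    simp only [Od, Finset.mem_filter, hmem] at hM; exact hM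
  rcases order_cases hf hb hg hhfa haf ha h4h h3h hgh hodd hg9 hs2 (le_refl T) (by omega) with
    e | e | e
  · exact Or.inl e
  · exact absurd e h168
  · exfalso
    have hempty : Od = ∅ := by
      rw [Finset.eq_empty_iff_forall_notMem]
      intro M hM
      simp only [Od, Finset.mem_filter, hmem] at hM
      obtain ⟨h6, h7⟩ := S.odd_facts hM.1 hM.2
      have hd : Nat.card M ∣ 816 := e ▸ card_subgroup_dvd_card M
      have hd17 : Nat.card M ∣ 17 := by
        refine Nat.Coprime.dvd_of_dvd_mul_left ?_ (show Nat.card M ∣ 48 * 17 from hd)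
        rw [show (48 : ℕ) = 2 ^ 4 * 3 by norm_num]
        exact Nat.Coprime.mul_right
          (((Nat.prime_two.coprime_iff_not_dvd.2 hM.2).symm).pow_right 4)
          ((Nat.prime_three.coprime_iff_not_dvd.2 hM.1.inv.1).symm)
      rcases (Nat.dvd_prime (by norm_num : Nat.Prime 17)).1 hd17 with e1 | e1 <;> omega
    rw [hempty, Finset.sum_empty, mul_zero, add_zero] at hbound
    exact no_eight_sixteen hf hb (e ▸ hg) hhfa haf h4h (e ▸ hgh) (e ▸ hodd) hs2 (by
      rw [hT] at hbound; split_ifs at hbound <;> omega)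

end Sums

end Setting

end CfsgLib.SelfThree
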