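import Cfsg.Agent.SelfThree.Basic
import Cfsg.Agent.Solvable.NilpotentPart

/-!
Inverting involutions and invariant subgroups of groups with a self-centralising element of
order three.
-/

set_option autoImplicit false
set_option linter.style.haveILetI false

namespace CfsgLib.SelfThree

open Subgroup CfsgLib.NilpotentPart

universe u

variable {G : Type u} [Group G]

/-- An involution inverting `x`. -/
structure Inverts (t x : G) : Prop where
  ord : orderOf t = 2
  conj : t * x * t⁻¹ = x⁻¹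

theorem normalizer_le_of_char {U : Subgroup G} (C : Subgroup U) [hC : C.Characteristic] :
    normalizer (U : Set G) ≤ normalizer ((C.map U.subtype : Subgroup G) : Set G) := by
  intro g hg
  let φ : MulAut U :=
    { toFun := fun u => ⟨g * u * g⁻¹, mem_normalizer_conj hg u.2⟩
      invFun := fun u => ⟨g⁻¹ * u * g, by simpa using mem_normalizer_conj (inv_mem hg) u.2⟩
      left_inv := fun u => Subtype.ext (by group)
      right_inv := fun u => Subtype.ext (by group)
      map_mul' := fun u v => Subtype.ext (by simp only [Subgroup.coe_mul]; group) }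
  have hφ := hC.fixed φ
  rw [mem_normalizer_iff]
  intro a
  constructor
  · rintro ⟨c, hc, rfl⟩
    exact ⟨φ c, mem_comap.1 (hφ.ge hc), rfl⟩
  · rintro ⟨c, hc, e⟩
    refine ⟨φ.symm c, ?_, ?_⟩
    · rw [SetLike.mem_coe, ← hφ, mem_comap]; simpa using hc
    · show g⁻¹ * (c : G) * g = a
      rw [show (c : G) = g * a * g⁻¹ from e]
      group

theorem mem_normalizer_map {G' : Type*} [Group G'] (f : G →* G') {U : Subgroup G} {g : G}
    (hg : g ∈ normalizer (U : Set G)) : f g ∈ normalizer ((U.map f : Subgroup G') : Set G') :=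
  U.le_normalizer_map f ⟨g, hg, rfl⟩

theorem Inv.map [Finite G] {G' : Type*} [Group G'] {x : G} {U : Subgroup G} (hU : Inv x U)
    (f : G →* G') : Inv (f x) (U.map f) :=
  ⟨fun h => hU.1 (h.trans (Subgroup.card_map_dvd U f)), mem_normalizer_map f hU.2⟩

theorem Inv.of_subtype [Finite G] {x : G} {H : Subgroup G} {hx : x ∈ H} {U : Subgroup H}
    (hU : Inv (⟨x, hx⟩ : H) U) : Inv x (U.map H.subtype) := hU.map H.subtype

theorem Inv.subgroupOf {x : G} {H U : Subgroup G} (hU : Inv x U) (hle : U ≤ H) (hx : x ∈ H) :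
    Inv (⟨x, hx⟩ : H) (U.subgroupOf H) := by
  refine ⟨by rw [Nat.card_congr (subgroupOfEquivOfLe hle).toEquiv]; exact hU.1, ?_⟩
  rw [mem_normalizer_iff]
  intro a
  simp only [mem_subgroupOf, Subgroup.coe_mul, Subgroup.coe_inv]
  exact mem_normalizer_iff.1 hU.2 a

theorem inv_bot (x : G) : Inv x (⊥ : Subgroup G) :=
  ⟨by rw [Subgroup.card_bot]; norm_num, by
    rw [normalizer_eq_top_iff.2 inferInstance]; exact mem_top x⟩

namespace SC

variable {x : G} (h : SC x)
include h

/-- If `x` is not fused with its inverse then there is a normal complement. -/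
theorem burnside [Finite G]
    (h3 : Nat.card (normalizer ((zpowers x : Subgroup G) : Set G)) = 3) :
    ∃ K : Subgroup G, K.Normal ∧ Nat.card G = 3 * Nat.card K ∧ ¬ 3 ∣ Nat.card K := by
  haveI : Fact (Nat.Prime 3) := ⟨Nat.prime_three⟩
  obtain ⟨P, hP⟩ := h.exists_sylow
  have hN : normalizer ((P : Subgroup G) : Set G) ≤ centralizer ((P : Subgroup G) : Set G) := by
    rw [hP, h.centralizer_zpowers]
    exact (eq_of_le_of_card_ge le_normalizer (by rw [h3, h.card_zpowers])).ge
  have hmul := (MonoidHom.ker_transferSylow_isComplement' P hN).card_mul_card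
  have hPc : Nat.card (P : Subgroup G) = 3 := by rw [hP, h.card_zpowers]
  rw [hPc] at hmul
  refine ⟨(MonoidHom.transferSylow P hN).ker, inferInstance, by omega, fun hd => h.not_nine_dvd ?_⟩
  rw [← hmul]
  exact Nat.mul_dvd_mul_right hd 3

theorem inverts_of_six [Finite G]
    (h6 : Nat.card (normalizer ((zpowers x : Subgroup G) : Set G)) = 6) :
    ∃ t, Inverts t x := by
  haveI : Fact (Nat.Prime 2) := ⟨Nat.prime_two⟩
  obtain ⟨⟨t, htN⟩, ht⟩ :=
    exists_prime_orderOf_dvd_card' (G := normalizer ((zpowers x : Subgroup G) : Set G)) 2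
      (by rw [h6]; norm_num)
  rw [Subgroup.orderOf_mk] at ht
  refine ⟨t, ht, ?_⟩
  rcases h.mem_cases ((mem_normalizer_iff.1 htN x).1 (mem_zpowers x)) with e | e | e
  · exact absurd (conj_eq_one_iff.1 e) h.ne_one
  · have h1 := h.mem_of_commute (c := t) (mul_inv_eq_iff_eq_mul.1 e)
    have h2 := orderOf_dvd_natCard (⟨t, h1⟩ : zpowers x)
    rw [Subgroup.orderOf_mk, ht, h.card_zpowers] at h2
    omega
  · exact e

theorem exists_inverting [Finite G] [IsSimpleGroup G] (hG : ¬ IsMulCommutative G) :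
    ∃ t, Inverts t x := by
  haveI : Fact (Nat.Prime 3) := ⟨Nat.prime_three⟩
  refine h.inverts_of_six (h.card_normalizer.resolve_left fun h3 => ?_)
  obtain ⟨P, hP⟩ := h.exists_sylow
  have hlt : Nat.card (zpowers x) < Nat.card G := by
    refine lt_of_le_of_ne (card_le_card_group _) fun e => hG ⟨⟨fun a b => ?_⟩⟩
    have htop := eq_top_of_card_eq _ e
    obtain ⟨i, rfl⟩ := mem_zpowers_iff.1 (htop.symm ▸ mem_top a : a ∈ zpowers x)
    obtain ⟨j, rfl⟩ := mem_zpowers_iff.1 (htop.symm ▸ mem_top b : b ∈ zpowers x)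
    exact ((Commute.refl x).zpow_zpow i j).eq
  refine CfsgLib.SmallSimple.not_le_centralizer P (by rw [hP, h.card_zpowers]; norm_num)
    (by rw [hP]; exact hlt) ?_
  rw [hP, h.centralizer_zpowers]
  exact (eq_of_le_of_card_ge le_normalizer (by rw [h3, h.card_zpowers])).ge

end SC

namespace Inverts

variable {x t : G} (hi : Inverts t x)
include hi

theorem mul_self : t * t = 1 := by rw [← pow_two, ← hi.ord, pow_orderOf_eq_one]

theorem inv_eq : t⁻¹ = t := inv_eq_of_mul_eq_one_right hi.mul_self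

theorem mul_x : t * x = x⁻¹ * t := by rw [← hi.conj]; group

theorem mul_x_inv : t * x⁻¹ = x * t := by
  calc t * x⁻¹ = x * (x⁻¹ * t) * x⁻¹ := by group
    _ = x * (t * x) * x⁻¹ := by rw [hi.mul_x]
    _ = x * t := by group

theorem mem_normalizer_zpowers : t ∈ normalizer ((zpowers x : Subgroup G) : Set G) := by
  rw [mem_normalizer_iff_map_conj_eq, MonoidHom.map_zpowers,
    show (MulAut.conj t : G →* G) x = x⁻¹ from hi.conj, zpowers_inv]

theorem card_normalizer [Finite G] (h : SC x) :
    Nat.card (normalizer ((zpowers x : Subgroup G) : Set G)) = 6 := by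
  haveI : Fact (Nat.Prime 3) := ⟨Nat.prime_three⟩
  refine h.card_normalizer.resolve_left fun h3 => ?_
  have := orderOf_dvd_natCard (⟨t, hi.mem_normalizer_zpowers⟩ :
    normalizer ((zpowers x : Subgroup G) : Set G))
  rw [Subgroup.orderOf_mk, hi.ord, h3] at this
  omega

theorem not_mem (h : SC x) {U : Subgroup G} [Finite G] (hU : Inv x U) : t ∉ U := fun ht => by
  have h1 : t * x * t⁻¹ * x⁻¹ ∈ U := by
    have h2 := mul_mem ht (mem_normalizer_conj hU.2 (inv_mem ht))
    simpa [mul_assoc] using h2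
  have hxx : x * x = x⁻¹ := eq_inv_of_mul_eq_one_left (by rw [← pow_three', h.pow_three])
  rw [hi.conj, ← mul_inv_rev, hxx, inv_inv] at h1
  refine hU.1 ?_
  have := orderOf_dvd_natCard (⟨x, h1⟩ : U)
  rwa [Subgroup.orderOf_mk, h.ord] at this

/-- A second inverting involution differs by a power of `x`. -/
theorem mem_mul (h : SC x) {t' : G} (hi' : Inverts t' x) : t' * t ∈ zpowers x := by
  refine h.mem_of_commute ?_
  show t' * t * x = x * (t' * t)
  rw [mul_assoc, hi.mul_x, ← mul_assoc, hi'.mul_x_inv, mul_assoc]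

theorem conj_inv [Finite G] {U : Subgroup G} (hU : Inv x U) :
    Inv x (U.map (MulAut.conj t).toMonoidHom) := by
  have h1 := hU.map (MulAut.conj t).toMonoidHom
  rw [show (MulAut.conj t).toMonoidHom x = x⁻¹ from hi.conj] at h1
  exact ⟨h1.1, by simpa using inv_mem h1.2⟩

theorem two_mul_card_dvd [Finite G] (h : SC x) {U H : Subgroup G} (hU : Inv x U)
    (ht : t ∈ normalizer (U : Set G)) (hUH : U ≤ H) (htH : t ∈ H) :
    2 * Nat.card U ∣ Nat.card H := by
  have hle : zpowers t ≤ normalizer (U : Set G) := zpowers_le.2 ht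
  have hdis : zpowers t ⊓ U = ⊥ := le_bot_iff.1 fun a ha => by
    obtain ⟨⟨k, hk⟩, haU⟩ := And.intro (mem_zpowers_iff.1 (mem_inf.1 ha).1) (mem_inf.1 ha).2
    rcases Int.even_or_odd k with ⟨j, rfl⟩ | ⟨j, rfl⟩
    · rw [mem_bot, ← hk, zpow_add, ← (Commute.refl t).mul_zpow, hi.mul_self, one_zpow]
    · refine absurd ?_ (hi.not_mem h hU)
      rwa [← hk, zpow_add, two_mul, zpow_add, ← (Commute.refl t).mul_zpow, hi.mul_self, one_zpow,
        one_mul, zpow_one] at haU
  have hcard : Nat.card (zpowers t ⊔ U : Subgroup G) = Nat.card (zpowers t) * Nat.card U :=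
    CfsgLib.Solvable.card_sup_of_disjoint hle hdis
  rw [Nat.card_zpowers, hi.ord] at hcard
  rw [← hcard]
  exact card_dvd_of_le (sup_le (zpowers_le.2 htH) hUH)

end Inverts

/-! ### The fixed points of an inverting involution -/

section Fixed

variable [Finite G] {x t : G} (h : SC x) (hi : Inverts t x) {M : Subgroup G} (hM : Inv x M)
  (ht : t ∈ normalizer (M : Set G))
include h hi hM

theorem sq_le_card :
    Nat.card (M ⊓ centralizer {t} : Subgroup G) ^ 2 ≤ Nat.card M := by
  set C := M ⊓ centralizer ({t} : Set G)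
  rw [pow_two, ← Nat.card_prod]
  refine Nat.card_le_card_of_injective (fun p : C × C =>
    (⟨(p.1 : G) * (x * (p.2 : G) * x⁻¹), mul_mem p.1.2.1 (mem_normalizer_conj hM.2 p.2.2.1)⟩ : M)) ?_
  rintro ⟨⟨a, ha⟩, ⟨b, hb⟩⟩ ⟨⟨a', ha'⟩, ⟨b', hb'⟩⟩ e
  have e' : a * (x * b * x⁻¹) = a' * (x * b' * x⁻¹) := congrArg Subtype.val e
  set d := a'⁻¹ * a with hd
  have hdC : d ∈ C := mul_mem (inv_mem ha') ha
  have hd' : d = x * (b' * b⁻¹) * x⁻¹ := by
    rw [hd]
    calc a'⁻¹ * a = a'⁻¹ * (a * (x * b * x⁻¹)) * (x * b * x⁻¹)⁻¹ := by group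
      _ = a'⁻¹ * (a' * (x * b' * x⁻¹)) * (x * b * x⁻¹)⁻¹ := by rw [e']
      _ = x * (b' * b⁻¹) * x⁻¹ := by group
  have h1 : t * d = d * t := (mem_centralizer_singleton_iff.1 hdC.2).symm
  have h2 : t * (b' * b⁻¹) = (b' * b⁻¹) * t :=
    (mem_centralizer_singleton_iff.1 (mul_mem hb' (inv_mem hb)).2).symm
  set q := b' * b⁻¹ with hq
  -- `q` commutes with `x`
  have e5 : x⁻¹ * q * x = x * q * x⁻¹ := by
    calc x⁻¹ * q * x = x⁻¹ * (t * q * t⁻¹) * x := by rw [h2]; group
      _ = (x⁻¹ * t) * q * (x⁻¹ * t)⁻¹ := by group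
      _ = (t * x) * q * (t * x)⁻¹ := by rw [hi.mul_x]
      _ = t * d * t⁻¹ := by rw [hd']; group
      _ = d := by rw [h1]; group
      _ = _ := hd'
  have hqx : Commute q (x * x) := by
    show q * (x * x) = x * x * q
    calc q * (x * x) = x * (x⁻¹ * q * x) * x := by group
      _ = x * (x * q * x⁻¹) * x := by rw [e5]
      _ = x * x * q := by group
  have hqx' : Commute q x := by
    have hxx : x * x = x⁻¹ := eq_inv_of_mul_eq_one_left (by rw [← pow_three', h.pow_three])
    rw [hxx] at hqx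
    simpa using hqx.inv_right
  have hq1 : q = 1 := h.fpf hM (mul_mem hb'.1 (inv_mem hb.1)) hqx'
  rw [hq, mul_inv_eq_one] at hq1
  subst hq1
  simpa using e'

include ht in
theorem card_le_sq :
    Nat.card M ≤ Nat.card (M ⊓ centralizer {t} : Subgroup G) ^ 2 := by
  classical
  set C := M ⊓ centralizer ({t} : Set G)
  haveI := Fintype.ofFinite G
  haveI := Fintype.ofFinite M
  let f : M → G := fun m => (m : G)⁻¹ * (t * (m : G) * t⁻¹)
  have hfib : ∀ a : G, Nat.card {m : M // f m = a} ≤ Nat.card C := by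
    intro a
    rcases isEmpty_or_nonempty {m : M // f m = a} with hemp | ⟨⟨m0, hm0⟩⟩
    · simp
    refine Nat.card_le_card_of_injective (fun m =>
      (⟨(m.1 : G) * (m0 : G)⁻¹, M.mul_mem m.1.2 (M.inv_mem m0.2), ?_⟩ : C)) ?_
    · have e : (m.1 : G)⁻¹ * (t * (m.1 : G) * t⁻¹) = (m0 : G)⁻¹ * (t * (m0 : G) * t⁻¹) :=
        m.2.trans hm0.symm
      refine mem_centralizer_singleton_iff.2 ?_
      calc (m.1 : G) * (m0 : G)⁻¹ * t
          = (m.1 : G) * ((m0 : G)⁻¹ * (t * (m0 : G) * t⁻¹)) * (t * (m0 : G)⁻¹) := by group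
        _ = (m.1 : G) * ((m.1 : G)⁻¹ * (t * (m.1 : G) * t⁻¹)) * (t * (m0 : G)⁻¹) := by rw [e]
        _ = t * ((m.1 : G) * (m0 : G)⁻¹) := by group
    · intro m m' e
      exact Subtype.ext (Subtype.ext (mul_right_cancel (congrArg Subtype.val e)))
  have himg : (Finset.univ.image f).card ≤ Nat.card C := by
    rw [← Fintype.card_coe, ← Nat.card_eq_fintype_card]
    have key : ∀ a : {a // a ∈ Finset.univ.image f}, ∃ w : C, ∀ v : G, v = x * (w : G) * x⁻¹ →
        (a : G) = v * (x * v⁻¹ * x⁻¹) := by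
      rintro ⟨a, ha⟩
      obtain ⟨m, -, rfl⟩ := Finset.mem_image.1 ha
      have haM : f m ∈ M := mul_mem (inv_mem m.2) (mem_normalizer_conj ht m.2)
      have hta : t * f m * t⁻¹ = (f m)⁻¹ := by
        simp only [f, hi.inv_eq, mul_inv_rev, inv_inv]
        calc t * ((m : G)⁻¹ * (t * m * t)) * t = t * (m : G)⁻¹ * t * m * (t * t) := by group
          _ = _ := by rw [hi.mul_self]; group
      obtain ⟨w, hw, hwa⟩ := h.exists_twist hM haM
      set v := x⁻¹ * (t * w * t⁻¹) * x with hv
      have hvM : v ∈ M := by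
        have := mem_normalizer_conj (inv_mem hM.2) (mem_normalizer_conj ht hw)
        simpa [hv] using this
      have hfix : v = w := by
        have e1 : (x * v * x⁻¹) * (x⁻¹ * (x * v * x⁻¹)⁻¹ * x) = x * w * x⁻¹ * w⁻¹ := by
          have : x * v * x⁻¹ = t * w * t⁻¹ := by rw [hv]; group
          rw [this]
          calc t * w * t⁻¹ * (x⁻¹ * (t * w * t⁻¹)⁻¹ * x)
              = t * w * ((t⁻¹ * x⁻¹) * t) * w⁻¹ * (t⁻¹ * x) := by group
            _ = t * w * ((x * t) * t) * w⁻¹ * (x⁻¹ * t⁻¹) := by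
              rw [hi.inv_eq, hi.mul_x_inv, hi.mul_x]
            _ = t * (w * (x * w⁻¹ * x⁻¹)) * t⁻¹ := by
              rw [mul_assoc x t t, hi.mul_self]; group
            _ = _ := by rw [hwa, hta, ← hwa]; group
        have hc : Commute (v⁻¹ * w) x := by
          show v⁻¹ * w * x = x * (v⁻¹ * w)
          have hxx : x * x = x⁻¹ := eq_inv_of_mul_eq_one_left (by rw [← pow_three', h.pow_three])
          calc v⁻¹ * w * x = v⁻¹ * (w * x * w⁻¹ * x⁻¹) * x * w := by group
            _ = v⁻¹ * (x * w * x⁻¹ * w⁻¹)⁻¹ * x * w := by group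
            _ = v⁻¹ * ((x * v * x⁻¹) * (x⁻¹ * (x * v * x⁻¹)⁻¹ * x))⁻¹ * x * w := by rw [e1]
            _ = x * (v⁻¹ * w) := by group
        exact (inv_mul_eq_one.1 (h.fpf hM (mul_mem (inv_mem hvM) hw) hc))
      have hw0 : x⁻¹ * w * x ∈ C := by
        refine ⟨by simpa using mem_normalizer_conj (inv_mem hM.2) hw, ?_⟩
        show x⁻¹ * w * x ∈ centralizer ({t} : Set G)
        rw [mem_centralizer_singleton_iff]
        have hxx : x * x = x⁻¹ := eq_inv_of_mul_eq_one_left (by rw [← pow_three', h.pow_three])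
        have e4 : t * w * t⁻¹ = x * w * x⁻¹ := by
          conv_rhs => rw [← hfix, hv]
          group
        calc x⁻¹ * w * x * t = (x⁻¹ * x⁻¹) * (x * w * x⁻¹) * (x * x) * t := by group
          _ = (x⁻¹ * x⁻¹) * (t * w * t⁻¹) * (x * x) * t := by rw [e4]
          _ = x * t * w * (t⁻¹ * x⁻¹) * t := by rw [hxx, ← mul_inv_rev, hxx, inv_inv]; group
          _ = (x * t) * w * (x * (t * t)) := by rw [hi.inv_eq, hi.mul_x_inv]; group
          _ = t * (x⁻¹ * w * x) := by rw [hi.mul_self, ← hi.mul_x_inv]; group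
      refine ⟨⟨x⁻¹ * w * x, hw0⟩, fun u hu => ?_⟩
      rw [hu, show x * (x⁻¹ * w * x) * x⁻¹ = w by group]
      exact hwa.symm
    choose g hg using key
    refine Nat.card_le_card_of_injective g fun a b e => Subtype.ext ?_
    rw [hg a _ rfl, hg b _ rfl, e]
  calc Nat.card M = ∑ a ∈ Finset.univ.image f, (Finset.univ.filter (fun m => f m = a)).card := by
        rw [Nat.card_eq_fintype_card, ← Finset.card_univ,
          Finset.card_eq_sum_card_image f Finset.univ]
    _ ≤ ∑ _a ∈ Finset.univ.image f, Nat.card C := Finset.sum_le_sum fun a _ => by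
        rw [← Fintype.card_subtype, ← Nat.card_eq_fintype_card]; exact hfib a
    _ ≤ Nat.card C ^ 2 := by
        rw [Finset.sum_const, smul_eq_mul, pow_two]; exact Nat.mul_le_mul_right _ himg

end Fixed

/-- A pair of elements of order three with product `x` gives an invariant subgroup. -/
theorem SC.exists_inv_of_pair [Finite G] {x y : G} (h : SC x) (hy : orderOf y = 3)
    (hw : orderOf (y⁻¹ * x) = 3) : ∃ U : Subgroup G, Inv x U ∧ y * x ∈ U := by
  haveI : Fact (Nat.Prime 3) := ⟨Nat.prime_three⟩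
  have hx3 := h.pow_three
  have hy3 : y ^ 3 = 1 := by rw [← hy, pow_orderOf_eq_one]
  have hw3 : (y⁻¹ * x) ^ 3 = 1 := by rw [← hw, pow_orderOf_eq_one]
  have hyy : y * y = y⁻¹ := eq_inv_of_mul_eq_one_left (by rw [← pow_three', hy3])
  have hxx : x * x = x⁻¹ := eq_inv_of_mul_eq_one_left (by rw [← pow_three', hx3])
  set a := y * x with ha
  set b := x * a * x⁻¹ with hb
  have hab : a * b = b * a := by
    have e : (y⁻¹ * x) * (y⁻¹ * x) = (y⁻¹ * x)⁻¹ :=
      eq_inv_of_mul_eq_one_left (by rw [← pow_three', hw3])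
    calc a * b = y * (x * x) * y := by rw [hb, ha]; group
      _ = y * x⁻¹ * y := by rw [hxx]
      _ = y * (y⁻¹ * x)⁻¹ := by group
      _ = y * ((y⁻¹ * x) * (y⁻¹ * x)) := by rw [e]
      _ = x * (y * y) * x := by rw [hyy]; group
      _ = b * a := by rw [hb, ha]; group
  have habc : x * b * x⁻¹ = (a * b)⁻¹ := by
    calc x * b * x⁻¹ = (x * x) * y * x⁻¹ := by rw [hb, ha]; group
      _ = x⁻¹ * y * x⁻¹ := by rw [hxx]
      _ = (x * y⁻¹ * x)⁻¹ := by group
      _ = (a * b)⁻¹ := by rw [hab, hb, ha, ← hyy]; group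
  set U := closure ({a, b} : Set G) with hU
  have hcomm : U ≤ centralizer (U : Set G) := by
    rw [hU, closure_le, centralizer_closure]
    intro c hc
    rw [SetLike.mem_coe, mem_centralizer_iff]
    intro d hd
    rcases hc with rfl | hc <;> rcases hd with rfl | hd <;>
      first
        | rfl
        | (rw [Set.mem_singleton_iff] at hd; subst hd; first | exact hab.symm | exact hab)
        | (rw [Set.mem_singleton_iff] at hc; subst hc; first | exact hab | exact hab.symm)
        | (rw [Set.mem_singleton_iff] at hc hd; subst hc hd; rfl)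
  have hxU : x ∈ normalizer (U : Set G) := by
    rw [mem_normalizer_iff_map_conj_eq]
    have hle : ∀ u ∈ U, x * u * x⁻¹ ∈ U := by
      intro u hu
      have : U.map (MulAut.conj x).toMonoidHom ≤ U := by
        rw [hU, MonoidHom.map_closure, closure_le]
        rintro v ⟨c, hc, rfl⟩
        rcases hc with rfl | hc
        · exact subset_closure (Or.inr rfl)
        · rw [Set.mem_singleton_iff] at hc
          subst hc
          show x * b * x⁻¹ ∈ closure ({a, b} : Set G)
          rw [habc]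
          exact inv_mem (mul_mem (subset_closure (Or.inl rfl)) (subset_closure (Or.inr rfl)))
      exact this ⟨u, hu, rfl⟩
    refine eq_of_le_of_card_ge ?_ (le_of_eq ?_)
    · rintro v ⟨u, hu, rfl⟩
      exact hle u hu
    · exact (card_map_of_injective (MulAut.conj x).injective).symm
  refine ⟨U, ⟨fun h3 => ?_, hxU⟩, subset_closure (Or.inl rfl)⟩
  obtain ⟨⟨z, hzU⟩, hz⟩ := exists_prime_orderOf_dvd_card' (G := U) 3 h3
  rw [Subgroup.orderOf_mk] at hz
  have hzc := h.sc_of_orderOf hz
  have hUz : U ≤ zpowers z := fun u hu =>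
    hzc.mem_of_commute (mem_centralizer_iff.1 (hcomm hu) z hzU).symm
  have hUeq : U = zpowers z := le_antisymm hUz (zpowers_le.2 hzU)
  have hzx : Commute z x := by
    rcases hzc.mem_cases (hUeq ▸ mem_normalizer_conj hxU hzU) with e | e | e
    · exact absurd (conj_eq_one_iff.1 e) hzc.ne_one
    · exact (mul_inv_eq_iff_eq_mul.1 e).symm
    · exfalso
      have e' : z = x * (x * (x * z * x⁻¹) * x⁻¹) * x⁻¹ := by
        calc z = x ^ 3 * z * (x ^ 3)⁻¹ := by rw [hx3]; group
          _ = _ := by rw [pow_succ, pow_succ, pow_one]; group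
      rw [e] at e'
      have e2 : x * z⁻¹ * x⁻¹ = (x * z * x⁻¹)⁻¹ := by group
      rw [e2, e, inv_inv, e] at e'
      have hzz : z * z = 1 := by
        nth_rewrite 1 [e']
        exact inv_mul_cancel z
      have := orderOf_dvd_of_pow_eq_one (show z ^ 2 = 1 by rw [pow_two, hzz])
      rw [hz] at this
      norm_num at this
  have haX : a ∈ zpowers x := (hUeq.le.trans (zpowers_le.2 (h.mem_of_commute hzx)))
    (subset_closure (Or.inl rfl))
  rcases h.mem_cases haX with e | e | e
  · have hb1 : b = 1 := by rw [hb, e]; group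
    have : U = ⊥ := by rw [hU, e, hb1]; simp
    rw [this, Subgroup.card_bot] at h3
    omega
  · have : y = 1 := by simpa [ha] using e
    simp [this] at hy
  · have : y = x := by
      rw [ha, ← hxx] at e
      exact mul_right_cancel e
    simp [this] at hw

end CfsgLib.SelfThree
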