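import Cfsg.Agent.SmallSimple.Basic
import Cfsg.Agent.Solvable.Fitting
import Mathlib

/-!
Groups with a self-centralising element of order three (Feit and Thompson): elementary facts.
-/

set_option autoImplicit false
set_option linter.style.haveILetI false

namespace CfsgLib.SelfThree

open Subgroup

universe u

variable {G : Type u} [Group G]

/-- An element of order three generating its own centraliser. -/
structure SC (x : G) : Prop where
  ord : orderOf x = 3
  cent : centralizer ({x} : Set G) = zpowers x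

/-- A subgroup of order prime to three normalised by `x`. -/
def Inv (x : G) (U : Subgroup G) : Prop :=
  ¬ 3 ∣ Nat.card U ∧ x ∈ normalizer (U : Set G)

theorem mem_normalizer_conj {U : Subgroup G} {x : G} (h : x ∈ normalizer (U : Set G)) {u : G}
    (hu : u ∈ U) : x * u * x⁻¹ ∈ U :=
  (mem_normalizer_iff.1 h u).1 hu

namespace SC

variable {x : G} (h : SC x)
include h

theorem pow_three : x ^ 3 = 1 := by rw [← h.ord, pow_orderOf_eq_one]

theorem ne_one : x ≠ 1 := fun e => by simpa [e] using h.ord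

theorem card_zpowers : Nat.card (zpowers x) = 3 := by rw [Nat.card_zpowers, h.ord]

theorem mem_of_commute {c : G} (hc : Commute c x) : c ∈ zpowers x :=
  h.cent ▸ mem_centralizer_singleton_iff.2 hc.eq

theorem mem_cases {c : G} (hc : c ∈ zpowers x) : c = 1 ∨ c = x ∨ c = x⁻¹ := by
  obtain ⟨k, rfl⟩ := mem_zpowers_iff.1 hc
  have h3 : x ^ (3 : ℤ) = 1 := by exact_mod_cast h.pow_three
  rw [← Int.emod_add_mul_ediv k 3, zpow_add, zpow_mul, h3, one_zpow, mul_one]
  have h0 := Int.emod_nonneg k (show (3 : ℤ) ≠ 0 by norm_num)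
  have h2 := Int.emod_lt_of_pos k (show (0 : ℤ) < 3 by norm_num)
  interval_cases hk : k % 3
  · exact Or.inl (zpow_zero x)
  · exact Or.inr (Or.inl (zpow_one x))
  · refine Or.inr (Or.inr (eq_inv_of_mul_eq_one_left ?_))
    rw [zpow_two, ← h.pow_three, pow_succ, pow_succ, pow_one, mul_assoc]

theorem inv : SC x⁻¹ := ⟨by rw [orderOf_inv, h.ord], by
  rw [zpowers_inv, ← h.cent]
  ext y
  simp only [mem_centralizer_singleton_iff]
  exact Commute.inv_right_iff⟩

/-- Conjugates inherit the property. -/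
theorem conj (g : G) : SC (g * x * g⁻¹) := by
  have hc : (centralizer ({g * x * g⁻¹} : Set G)) =
      (centralizer ({x} : Set G)).map (MulAut.conj g).toMonoidHom := by
    ext y
    rw [mem_map_equiv, MulAut.conj_symm_apply, mem_centralizer_singleton_iff,
      mem_centralizer_singleton_iff]
    constructor
    · intro e
      calc g⁻¹ * y * g * x = g⁻¹ * (y * (g * x * g⁻¹)) * g := by group
        _ = g⁻¹ * ((g * x * g⁻¹) * y) * g := by rw [e]
        _ = x * (g⁻¹ * y * g) := by group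
    · intro e
      calc y * (g * x * g⁻¹) = g * ((g⁻¹ * y * g) * x) * g⁻¹ := by group
        _ = g * (x * (g⁻¹ * y * g)) * g⁻¹ := by rw [e]
        _ = g * x * g⁻¹ * y := by group
  refine ⟨?_, ?_⟩
  · rw [← h.ord]
    exact orderOf_injective (MulAut.conj g).toMonoidHom (MulAut.conj g).injective x
  · rw [hc, h.cent, MonoidHom.map_zpowers]
    rfl

theorem subgroup {H : Subgroup G} (hx : x ∈ H) : SC (⟨x, hx⟩ : H) := by
  refine ⟨by rw [Subgroup.orderOf_mk, h.ord], ?_⟩
  ext ⟨y, hy⟩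
  rw [mem_centralizer_singleton_iff, mem_zpowers_iff]
  constructor
  · intro e
    obtain ⟨k, hk⟩ := mem_zpowers_iff.1 (h.mem_of_commute (congrArg Subtype.val e : y * x = x * y))
    exact ⟨k, Subtype.ext (by simpa using hk)⟩
  · rintro ⟨k, hk⟩
    rw [← hk]
    exact ((Commute.refl (⟨x, hx⟩ : H)).zpow_left k).eq

theorem inv_mem_normalizer {U : Subgroup G} (hU : Inv x U) : x⁻¹ ∈ normalizer (U : Set G) :=
  inv_mem hU.2

/-- `x` fixes nothing in an invariant subgroup of order prime to three. -/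
theorem fpf [Finite G] {U : Subgroup G} (hU : Inv x U) {u : G} (hu : u ∈ U)
    (hx : Commute u x) : u = 1 := by
  have h1 := orderOf_dvd_natCard (⟨u, hu⟩ : U)
  rw [Subgroup.orderOf_mk] at h1
  rcases h.mem_cases (h.mem_of_commute hx) with e | e | e
  · exact e
  · rw [e, h.ord] at h1; exact absurd h1 hU.1
  · rw [e, orderOf_inv, h.ord] at h1; exact absurd h1 hU.1

/-- The map `u ↦ u⁻¹ x u x⁻¹` of an invariant subgroup of order prime to three is bijective. -/
theorem exists_twist [Finite G] {U : Subgroup G} (hU : Inv x U) {u : G} (hu : u ∈ U) :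
    ∃ w ∈ U, w * (x * w⁻¹ * x⁻¹) = u := by
  let f : U → U := fun w => ⟨(w : G) * (x * (w : G)⁻¹ * x⁻¹),
    mul_mem w.2 (mem_normalizer_conj hU.2 (inv_mem w.2))⟩
  have hf : Function.Injective f := by
    rintro ⟨a, ha⟩ ⟨b, hb⟩ e
    have e' : a * (x * a⁻¹ * x⁻¹) = b * (x * b⁻¹ * x⁻¹) := congrArg Subtype.val e
    have hc : Commute (b⁻¹ * a) x := by
      show b⁻¹ * a * x = x * (b⁻¹ * a)
      calc b⁻¹ * a * x = b⁻¹ * (a * (x * a⁻¹ * x⁻¹)) * x * a := by group
        _ = b⁻¹ * (b * (x * b⁻¹ * x⁻¹)) * x * a := by rw [e']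
        _ = x * (b⁻¹ * a) := by group
    exact Subtype.ext (inv_mul_eq_one.1 (h.fpf hU (mul_mem (inv_mem hb) ha) hc)).symm
  obtain ⟨⟨w, hw⟩, e⟩ := (Finite.injective_iff_surjective.1 hf) ⟨u, hu⟩
  exact ⟨w, hw, congrArg Subtype.val e⟩

theorem triple [Finite G] {U : Subgroup G} (hU : Inv x U) {u : G} (hu : u ∈ U) :
    u * (x * u * x⁻¹) * (x * (x * u * x⁻¹) * x⁻¹) = 1 := by
  obtain ⟨w, -, rfl⟩ := h.exists_twist hU hu
  have h3 := h.pow_three
  calc _ = w * (x ^ 3) * w⁻¹ * (x ^ 3)⁻¹ := by rw [pow_succ, pow_succ, pow_one]; group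
    _ = 1 := by rw [h3]; group

/-- An element commutes with all conjugates of its image. -/
theorem commute_conj [Finite G] {U : Subgroup G} (hU : Inv x U) {a y : G} (ha : a ∈ U) (hy : y ∈ U) :
    Commute a (y * (x * a * x⁻¹) * y⁻¹) := by
  obtain ⟨w, hw, rfl⟩ := h.exists_twist hU hy
  set b := w⁻¹ * a * w with hb
  have hbU : b ∈ U := mul_mem (mul_mem (inv_mem hw) ha) hw
  have h1 := h.triple hU hbU
  have h2 := h.triple hU (inv_mem hbU)
  set c := x * b * x⁻¹ with hc
  set d := x * c * x⁻¹ with hd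
  have h2' : b⁻¹ * c⁻¹ * d⁻¹ = 1 := by
    rw [← h2, hd, hc]
    group
  have hcomm : b * c = c * b := by
    have e1 : d⁻¹ = b * c := inv_eq_of_mul_eq_one_left h1
    rw [e1] at h2'
    calc b * c = (c * b) * (b⁻¹ * c⁻¹ * (b * c)) := by group
      _ = c * b := by rw [h2', mul_one]
  have ha' : a = w * b * w⁻¹ := by rw [hb]; group
  have hx' : w * (x * w⁻¹ * x⁻¹) * (x * a * x⁻¹) * (w * (x * w⁻¹ * x⁻¹))⁻¹ = w * c * w⁻¹ := by
    rw [hc, hb]; group
  rw [hx']
  show a * (w * c * w⁻¹) = w * c * w⁻¹ * a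
  rw [ha']
  calc w * b * w⁻¹ * (w * c * w⁻¹) = w * (b * c) * w⁻¹ := by group
    _ = w * (c * b) * w⁻¹ := by rw [hcomm]
    _ = w * c * w⁻¹ * (w * b * w⁻¹) := by group

/-- An element commutes with all its conjugates. -/
theorem commute_self_conj [Finite G] {U : Subgroup G} (hU : Inv x U) {a y : G} (ha : a ∈ U)
    (hy : y ∈ U) : Commute a (y * a * y⁻¹) := by
  have hxa := mem_normalizer_conj hU.2 ha
  have h1 : Commute a (y * (x * a * x⁻¹) * y⁻¹) := h.commute_conj hU ha hy
  have h2 : Commute a (y * (x * (x * a * x⁻¹) * x⁻¹) * y⁻¹) := by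
    have hi : Inv x⁻¹ U := ⟨hU.1, h.inv_mem_normalizer hU⟩
    have e : x * (x * a * x⁻¹) * x⁻¹ = x⁻¹ * a * x⁻¹⁻¹ := by
      have h3 : x * x = x⁻¹ := eq_inv_of_mul_eq_one_left (by rw [← pow_three', h.pow_three])
      calc x * (x * a * x⁻¹) * x⁻¹ = (x * x) * a * (x * x)⁻¹ := by group
        _ = _ := by rw [h3]
    rw [e]
    exact h.inv.commute_conj hi ha hy
  have h3 := h.triple hU ha
  have h4 : y * a * y⁻¹ =
      ((y * (x * a * x⁻¹) * y⁻¹) * (y * (x * (x * a * x⁻¹) * x⁻¹) * y⁻¹))⁻¹ := by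
    rw [mul_assoc] at h3
    conv_lhs => rw [eq_inv_of_mul_eq_one_left h3]
    group
  rw [h4]
  exact (h1.mul_right h2).inv_right

/-- Invariant subgroups of order prime to three are nilpotent. -/
theorem isNilpotent [Finite G] {U : Subgroup G} (hU : Inv x U) : Group.IsNilpotent U := by
  refine ((Group.isNilpotent_of_finite_tfae (G := U)).out 0 3 rfl rfl).2 fun p hp P => ?_
  suffices hall : ∀ a : U, a ∈ (P : Subgroup U) → ∀ Q : Sylow p U, a ∈ (Q : Subgroup U) by
    haveI : Subsingleton (Sylow p U) := ⟨fun Q R => by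
      have : ∀ S T : Sylow p U, (S : Subgroup U) ≤ T := fun S T s hs => by
        obtain ⟨g, rfl⟩ := MulAction.exists_smul_eq U P S
        obtain ⟨t, ht, rfl⟩ : ∃ t ∈ (P : Subgroup U), g * t * g⁻¹ = s := by
          rw [Sylow.coe_subgroup_smul] at hs
          obtain ⟨t, ht, e⟩ := hs
          exact ⟨t, ht, e⟩
        have := hall t ht (g⁻¹ • T)
        rw [Sylow.coe_subgroup_smul] at this
        obtain ⟨r, hr, e⟩ := this
        rw [← e]
        simpa [mul_assoc] using (SetLike.mem_coe.1 hr)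
      exact Sylow.ext (le_antisymm (this Q R) (this R Q))⟩
    exact Sylow.normal_of_subsingleton P
  intro a ha Q
  set N := normalClosure ({a} : Set U) with hN
  have hab : N ≤ centralizer (N : Set U) := by
    have hconj : ∀ c ∈ Group.conjugatesOfSet ({a} : Set U), ∀ d ∈ Group.conjugatesOfSet ({a} : Set U),
        c * d = d * c := by
      intro c hc d hd
      obtain ⟨a', ha', hca⟩ := Group.mem_conjugatesOfSet_iff.1 hc
      obtain ⟨a'', ha'', hda⟩ := Group.mem_conjugatesOfSet_iff.1 hd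
      rw [Set.mem_singleton_iff.1 ha'] at hca
      rw [Set.mem_singleton_iff.1 ha''] at hda
      obtain ⟨g, rfl⟩ := isConj_iff.1 hca
      obtain ⟨k, rfl⟩ := isConj_iff.1 hda
      have hc' := h.commute_self_conj hU a.2 (U.mul_mem (U.inv_mem g.2) k.2)
      apply Subtype.ext
      simp only [Subgroup.coe_mul, Subgroup.coe_inv]
      calc (g : G) * a * (g : G)⁻¹ * ((k : G) * a * (k : G)⁻¹)
          = (g : G) * ((a : G) * (((g : G)⁻¹ * k) * a * ((g : G)⁻¹ * k)⁻¹)) * (g : G)⁻¹ := by group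
        _ = (g : G) * ((((g : G)⁻¹ * k) * a * ((g : G)⁻¹ * k)⁻¹) * a) * (g : G)⁻¹ := by rw [hc'.eq]
        _ = (k : G) * a * (k : G)⁻¹ * ((g : G) * a * (g : G)⁻¹) := by group
    rw [hN, normalClosure, closure_le]
    intro c hc
    rw [SetLike.mem_coe, centralizer_closure, mem_centralizer_iff]
    exact fun d hd => (hconj c hc d hd).symm
  haveI hcomm : IsMulCommutative N := ⟨⟨fun u v => Subtype.ext (mem_centralizer_iff.1 (hab v.2) u u.2)⟩⟩
  have hNp : IsPGroup p N := by
    rintro ⟨v, hv⟩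
    suffices hk : ∃ k : ℕ, v ^ p ^ k = 1 by
      obtain ⟨k, hk⟩ := hk; exact ⟨k, Subtype.ext hk⟩
    refine closure_induction (p := fun v _ => ∃ k : ℕ, v ^ p ^ k = 1) ?_ ⟨0, by simp⟩ ?_ ?_ hv
    · intro c hc
      obtain ⟨a', ha', hca⟩ := Group.mem_conjugatesOfSet_iff.1 hc
      rw [Set.mem_singleton_iff] at ha'
      subst ha'
      obtain ⟨g, rfl⟩ := isConj_iff.1 hca
      obtain ⟨k, hk⟩ := P.2 ⟨a', ha⟩
      exact ⟨k, by rw [conj_pow, show a' ^ p ^ k = 1 from congrArg Subtype.val hk, mul_one, mul_inv_cancel]⟩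
    · rintro u v hu hv ⟨k, hk⟩ ⟨l, hl⟩
      refine ⟨k + l, ?_⟩
      have huv : Commute u v := mem_centralizer_iff.1 (hab hv) u hu
      rw [huv.mul_pow, pow_add, pow_mul, hk, one_pow, one_mul, mul_comm (p ^ k), pow_mul, hl, one_pow]
    · rintro u - ⟨k, hk⟩
      exact ⟨k, by rw [inv_pow, hk, inv_one]⟩
  exact (Q.3 (hNp.to_sup_of_normal_left Q.2) le_sup_right).le
    (mem_sup_left (subset_normalClosure rfl))

/-- `|U| ≡ 1 (mod 3)`. -/
theorem card_mod_three [Finite G] {U : Subgroup G} (hU : Inv x U) : Nat.card U % 3 = 1 := by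
  classical
  haveI := Fintype.ofFinite U
  haveI : Fact (Nat.Prime 3) := ⟨Nat.prime_three⟩
  let f : Function.End U := fun u => ⟨x * u * x⁻¹, mem_normalizer_conj hU.2 u.2⟩
  have hf : f ^ 3 ^ 1 = 1 := by
    funext u
    apply Subtype.ext
    show x * (x * (x * u * x⁻¹) * x⁻¹) * x⁻¹ = u
    calc _ = x ^ 3 * u * (x ^ 3)⁻¹ := by rw [pow_succ, pow_succ, pow_one]; group
      _ = u := by rw [h.pow_three]; group
  have := Equiv.Perm.card_fixedPoints_modEq hf
  have hfix : Fintype.card (Function.fixedPoints f) = 1 := by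
    refine Fintype.card_eq_one_iff.2 ⟨⟨1, Subtype.ext (by simp [f])⟩, fun u => Subtype.ext ?_⟩
    have e : x * (u.1 : G) * x⁻¹ = u.1 := congrArg Subtype.val u.2
    exact Subtype.ext (h.fpf hU u.1.2 (mul_inv_eq_iff_eq_mul.1 e).symm)
  rw [hfix] at this
  rw [Nat.card_eq_fintype_card]
  exact this

/-- The coset of `x` consists of conjugates of `x`. -/
theorem quotient [Finite G] {K : Subgroup G} [K.Normal] (hK : ¬ 3 ∣ Nat.card K) :
    SC (QuotientGroup.mk' K x) := by
  have hI : Inv x K := ⟨hK, by rw [normalizer_eq_top_iff.2 ‹_›]; exact mem_top x⟩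
  have hxK : x ∉ K := fun hm => hK (by
    have := orderOf_dvd_natCard (⟨x, hm⟩ : K)
    rwa [Subgroup.orderOf_mk, h.ord] at this)
  refine ⟨?_, le_antisymm (fun c hc => ?_) (zpowers_le.2 (mem_centralizer_singleton_iff.2 rfl))⟩
  · refine (Nat.prime_three.eq_one_or_self_of_dvd _ (h.ord ▸ orderOf_map_dvd _ x)).resolve_left ?_
    rw [orderOf_eq_one_iff]
    exact fun e => hxK ((QuotientGroup.eq_one_iff x).1 e)
  obtain ⟨c, rfl⟩ := QuotientGroup.mk'_surjective K c
  rw [mem_centralizer_singleton_iff, ← map_mul, ← map_mul] at hc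
  have hk : c * x * c⁻¹ * x⁻¹ ∈ K := by
    rw [← QuotientGroup.eq_one_iff]
    show QuotientGroup.mk' K (c * x * c⁻¹ * x⁻¹) = 1
    rw [show c * x * c⁻¹ * x⁻¹ = (c * x) * (x * c)⁻¹ by group, map_mul, map_inv, hc, mul_inv_cancel]
  obtain ⟨w, hw, he⟩ := h.exists_twist hI hk
  have hcomm : Commute (w⁻¹ * c) x := by
    show w⁻¹ * c * x = x * (w⁻¹ * c)
    calc w⁻¹ * c * x = w⁻¹ * (c * x * c⁻¹ * x⁻¹) * x * c := by group
      _ = w⁻¹ * (w * (x * w⁻¹ * x⁻¹)) * x * c := by rw [he]
      _ = x * (w⁻¹ * c) := by group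
  obtain ⟨i, hi⟩ := mem_zpowers_iff.1 (h.mem_of_commute hcomm)
  refine mem_zpowers_iff.2 ⟨i, ?_⟩
  rw [← map_zpow, hi, map_mul, map_inv, show QuotientGroup.mk' K w = 1 from
    (QuotientGroup.eq_one_iff w).2 hw, inv_one, one_mul]

section Sylow

variable [Finite G] [hp : Fact (Nat.Prime 3)]

theorem exists_sylow : ∃ P : Sylow 3 G, (P : Subgroup G) = zpowers x := by
  obtain ⟨P, hP⟩ := (IsPGroup.of_card (n := 1) (G := zpowers x)
    (by rw [h.card_zpowers, pow_one])).exists_le_sylow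
  refine ⟨P, le_antisymm (fun y hy => ?_) hP⟩
  haveI : Nontrivial (P : Subgroup G) :=
    ⟨⟨⟨x, hP (mem_zpowers x)⟩, 1, fun e => h.ne_one (congrArg Subtype.val e)⟩⟩
  haveI := P.2.center_nontrivial
  obtain ⟨w, hw⟩ := exists_ne (1 : center (P : Subgroup G))
  have hwX : ((w : (P : Subgroup G)) : G) ∈ zpowers x := h.mem_of_commute
    (congrArg Subtype.val (mem_center_iff.1 w.2 ⟨x, hP (mem_zpowers x)⟩)).symm
  have hc : Commute y ((w : (P : Subgroup G)) : G) :=
    congrArg Subtype.val (mem_center_iff.1 w.2 ⟨y, hy⟩)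
  refine h.mem_of_commute ?_
  rcases h.mem_cases hwX with e | e | e
  · exact absurd (Subtype.ext (Subtype.ext e)) hw
  · rwa [e] at hc
  · rw [e] at hc; simpa using hc.inv_right

theorem card_sylow (P : Sylow 3 G) : Nat.card (P : Subgroup G) = 3 := by
  obtain ⟨Q, hQ⟩ := h.exists_sylow
  rw [P.card_eq_multiplicity, ← Q.card_eq_multiplicity, hQ, h.card_zpowers]

theorem not_nine_dvd : ¬ 9 ∣ Nat.card G := fun h9 => by
  obtain ⟨Q, hQ⟩ := h.exists_sylow
  have h1 := Q.not_dvd_index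
  have h2 := (Q : Subgroup G).card_mul_index
  rw [h.card_sylow] at h2
  exact h1 (by omega)

theorem three_dvd : 3 ∣ Nat.card G := h.ord ▸ _root_.orderOf_dvd_natCard x

/-- All elements of order three are conjugate to `x` or its inverse. -/
theorem exists_conj {y : G} (hy : orderOf y = 3) :
    ∃ g : G, y = g * x * g⁻¹ ∨ y = g * x⁻¹ * g⁻¹ := by
  obtain ⟨Q, hQ⟩ := h.exists_sylow
  obtain ⟨R, hR⟩ := (IsPGroup.of_card (n := 1) (G := zpowers y)
    (by rw [Nat.card_zpowers, hy, pow_one])).exists_le_sylow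
  obtain ⟨g, rfl⟩ := MulAction.exists_smul_eq G Q R
  have hyR : y ∈ ((g • Q : Sylow 3 G) : Subgroup G) := hR (mem_zpowers y)
  rw [Sylow.coe_subgroup_smul] at hyR
  obtain ⟨z, hz, rfl⟩ := hyR
  rcases h.mem_cases (hQ ▸ hz : z ∈ zpowers x) with rfl | rfl | rfl
  · simp at hy
  · exact ⟨g, Or.inl rfl⟩
  · exact ⟨g, Or.inr rfl⟩

theorem sc_of_orderOf {y : G} (hy : orderOf y = 3) : SC y := by
  obtain ⟨g, rfl | rfl⟩ := h.exists_conj hy
  exacts [h.conj g, h.inv.conj g]

omit hp in
theorem centralizer_zpowers : centralizer ((zpowers x : Subgroup G) : Set G) = zpowers x := by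
  rw [zpowers_eq_closure, centralizer_closure, ← zpowers_eq_closure, h.cent]

omit hp in
theorem card_normalizer :
    Nat.card (normalizer ((zpowers x : Subgroup G) : Set G)) = 3 ∨
      Nat.card (normalizer ((zpowers x : Subgroup G) : Set G)) = 6 := by
  haveI : Fact (Nat.Prime 3) := ⟨Nat.prime_three⟩
  have hle : zpowers x ≤ normalizer ((zpowers x : Subgroup G) : Set G) := le_normalizer
  have hd := Subgroup.card_subgroup_dvd_card (zpowers x).normalizerMonoidHom.range
  rw [← Subgroup.index_ker, normalizerMonoidHom_ker, h.centralizer_zpowers, IsCyclic.card_mulAut,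
    h.card_zpowers, Nat.totient_prime Nat.prime_three] at hd
  have hm := ((zpowers x).subgroupOf (normalizer ((zpowers x : Subgroup G) : Set G))).card_mul_index
  rw [Nat.card_congr (subgroupOfEquivOfLe hle).toEquiv, h.card_zpowers] at hm
  rcases (Nat.dvd_prime Nat.prime_two).1 hd with e | e <;> rw [e] at hm <;> omega

end Sylow

end SC

/-- Characteristic subgroups of invariant subgroups are invariant. -/
theorem Inv.char {x : G} {U : Subgroup G} (hU : Inv x U) [Finite G] (C : Subgroup U)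
    [hC : C.Characteristic] : Inv x (C.map U.subtype) := by
  refine ⟨fun h => hU.1 (h.trans (card_dvd_of_le (map_subtype_le C))), ?_⟩
  let φ : MulAut U :=
    { toFun := fun u => ⟨x * u * x⁻¹, mem_normalizer_conj hU.2 u.2⟩
      invFun := fun u => ⟨x⁻¹ * u * x, by simpa using mem_normalizer_conj (inv_mem hU.2) u.2⟩
      left_inv := fun u => Subtype.ext (by group)
      right_inv := fun u => Subtype.ext (by group)
      map_mul' := fun u v => Subtype.ext (by simp only [Subgroup.coe_mul]; group) }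
  have hφ := hC.fixed φ
  rw [mem_normalizer_iff]
  intro g
  constructor
  · rintro ⟨c, hc, rfl⟩
    exact ⟨φ c, mem_comap.1 (hφ.ge hc), rfl⟩
  · rintro ⟨c, hc, e⟩
    refine ⟨φ.symm c, ?_, ?_⟩
    · rw [SetLike.mem_coe, ← hφ, mem_comap]; simpa using hc
    · show x⁻¹ * (c : G) * x = g
      rw [show (c : G) = x * g * x⁻¹ from e]
      group

theorem Inv.sup_normal {x : G} [Finite G] {U K : Subgroup G} [K.Normal] (hU : Inv x U)
    (hK : ¬ 3 ∣ Nat.card K) : Inv x (U ⊔ K) := by
  refine ⟨fun h => ?_, ?_⟩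
  · have h1 := (Subgroup.card_mul_index ((K).subgroupOf (U ⊔ K)))
    have h2 : (K.subgroupOf (U ⊔ K)).index ∣ Nat.card U := by
      rw [show (K.subgroupOf (U ⊔ K)).index = K.relIndex (U ⊔ K) from rfl, relIndex_sup_right]
      exact relIndex_dvd_card K U
    rw [Nat.card_congr (subgroupOfEquivOfLe (le_sup_right : K ≤ U ⊔ K)).toEquiv] at h1
    rw [← h1] at h
    rcases Nat.prime_three.dvd_mul.1 h with e | e
    exacts [hK e, hU.1 (e.trans h2)]
  · rw [mem_normalizer_iff_map_conj_eq, Subgroup.map_sup]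
    congr 1
    · exact mem_normalizer_iff_map_conj_eq.1 hU.2
    · exact mem_normalizer_iff_map_conj_eq.1 (by rw [normalizer_eq_top_iff.2 ‹_›]; exact mem_top x)

end CfsgLib.SelfThree
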