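import Cfsg.Agent.SelfThree.Tools
import Cfsg.Agent.SmallSimple.OneSixtyEight

/-!
The possible structures, the small simple cases, and what a subgroup of this shape tells.
-/

set_option autoImplicit false
set_option linter.style.haveILetI false

namespace CfsgLib.SelfThree

open Subgroup CfsgLib.NilpotentPart

universe u

variable {G : Type u} [Group G] [Finite G]

theorem pCore_characteristic (q : ℕ) [Fact q.Prime] (H : Type u) [Group H] [Finite H] :
    (Cfsg.pCore q H).Characteristic :=
  characteristic_iff_map_le.2 fun φ => CfsgLib.Solvable.le_pCore q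
    ((CfsgLib.Solvable.pCore_normal (p := q)).map φ.toMonoidHom φ.surjective)
    ((CfsgLib.Solvable.isPGroup_pCore q).map φ.toMonoidHom)

theorem normalizer_le_part (M : Subgroup G) (q : ℕ) [Fact q.Prime] :
    normalizer (M : Set G) ≤ normalizer ((part M q : Subgroup G) : Set G) :=
  haveI := pCore_characteristic q M
  normalizer_le_of_char (Cfsg.pCore q M)

theorem Inv.part {x : G} {M : Subgroup G} (hM : Inv x M) (q : ℕ) [Fact q.Prime] :
    Inv x (part M q) :=
  ⟨fun h => hM.1 (h.trans (card_dvd_of_le (part_le M q))), normalizer_le_part M q hM.2⟩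

theorem part_ne_bot {M : Subgroup G} (hn : Group.IsNilpotent M) {q : ℕ} [hq : Fact q.Prime]
    (hd : q ∣ Nat.card M) : part M q ≠ ⊥ := fun e => by
  have h1 := card_part (p := q) hn
  rw [e, Subgroup.card_bot] at h1
  have h2 := hq.out.factorization_pos_of_dvd Nat.card_pos.ne' hd
  exact absurd h1.symm (Nat.one_lt_pow (by omega) hq.out.one_lt).ne'

theorem card_map_mk (U K : Subgroup G) [K.Normal] :
    Nat.card (U.map (QuotientGroup.mk' K)) * Nat.card (K ⊓ U : Subgroup G) = Nat.card U := by
  rw [← relIndex_ker, QuotientGroup.ker_mk', ← inf_relIndex_right, ← relIndex_bot_left,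
    ← relIndex_bot_left, mul_comm]
  exact relIndex_mul_relIndex ⊥ (K ⊓ U) U bot_le inf_le_right

theorem Inverts.quotient {x t : G} (hi : Inverts t x) (h : SC x) {K : Subgroup G} [K.Normal]
    (hK : ¬ 3 ∣ Nat.card K) : Inverts (QuotientGroup.mk' K t) (QuotientGroup.mk' K x) := by
  refine ⟨orderOf_eq_prime (p := 2) ?_ ?_, by rw [← map_inv, ← map_mul, ← map_mul, hi.conj, map_inv]⟩
  · rw [pow_two, ← map_mul, hi.mul_self, map_one]
  · exact fun e => hi.not_mem h ⟨hK, by rw [normalizer_eq_top_iff.2 ‹_›]; exact mem_top x⟩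
      ((QuotientGroup.eq_one_iff t).1 e)

namespace SC

variable {x : G} (h : SC x)
include h

theorem exists_conj_inv {U : Subgroup G} (hU : ¬ 3 ∣ Nat.card U)
    (h3 : 3 ∣ Nat.card (normalizer (U : Set G))) :
    ∃ U' : Subgroup G, Inv x U' ∧ Nat.card U' = Nat.card U := by
  haveI : Fact (Nat.Prime 3) := ⟨Nat.prime_three⟩
  obtain ⟨⟨y, hyU⟩, hy⟩ := exists_prime_orderOf_dvd_card' (G := normalizer (U : Set G)) 3 h3
  rw [Subgroup.orderOf_mk] at hy
  obtain ⟨g, hg⟩ := h.exists_conj hy
  have hc : Nat.card (U.map (MulAut.conj g⁻¹).toMonoidHom) = Nat.card U :=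
    card_map_of_injective (MulAut.conj g⁻¹).injective
  have h2 := mem_normalizer_map (MulAut.conj g⁻¹).toMonoidHom hyU
  refine ⟨_, ⟨by rw [hc]; exact hU, ?_⟩, hc⟩
  rcases hg with rfl | rfl
  · simpa [mul_assoc] using h2
  · simpa [mul_assoc] using h2

theorem card_inv_six (hG : Nat.card G ∣ 6) {U : Subgroup G} (hU : Inv x U) : Nat.card U = 1 := by
  have h1 := h.card_mod_three hU
  have h2 := (card_subgroup_dvd_card U).trans hG
  have h3 := hU.1
  have := Nat.le_of_dvd (by norm_num) h2
  interval_cases hc : Nat.card U <;> omega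

theorem card_inv_sixty (hG : Nat.card G = 60) {U : Subgroup G} (hU : Inv x U) :
    Nat.card U = 1 ∨ Nat.card U = 4 := by
  haveI : Fact (Nat.Prime 2) := ⟨Nat.prime_two⟩
  have h1 := h.card_mod_three hU
  have h2 : Nat.card U ∣ 60 := hG ▸ card_subgroup_dvd_card U
  have h3 := hU.1
  have h10 : Nat.card U ≠ 10 := fun e => by
    have h4 := card_part (p := 2) (h.isNilpotent hU)
    have h5 := h.card_mod_three (hU.part 2)
    rw [e, show (10 : ℕ) = 2 * 5 by norm_num, Nat.factorization_mul (by norm_num) (by norm_num),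
      Finsupp.add_apply, Nat.prime_two.factorization_self,
      Nat.factorization_eq_zero_of_not_dvd (by norm_num)] at h4
    omega
  have := Nat.le_of_dvd (by norm_num) h2
  have h4 : Nat.card U ∣ 20 := ((Nat.prime_three.coprime_iff_not_dvd.2 h3).symm).dvd_of_dvd_mul_left
    (show Nat.card U ∣ 3 * 20 from h2)
  have := Nat.le_of_dvd (by norm_num) h4
  interval_cases hc : Nat.card U <;> omega

theorem exists_inv_sixty [IsSimpleGroup G] (hG : Nat.card G = 60) :
    ∃ A : Subgroup G, Inv x A ∧ Nat.card A = 4 := by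
  haveI : Fact (Nat.Prime 2) := ⟨Nat.prime_two⟩
  obtain ⟨P⟩ : Nonempty (Sylow 2 G) := Sylow.nonempty
  have hP : Nat.card (P : Subgroup G) = 2 ^ 2 :=
    CfsgLib.SmallSimple.card_sylow_eq P (k := 2) (m := 15) (by rw [hG]; norm_num) (by norm_num)
  suffices h3 : 3 ∣ Nat.card (normalizer ((P : Subgroup G) : Set G)) by
    obtain ⟨A, hA, hA'⟩ := h.exists_conj_inv (U := (P : Subgroup G)) (by rw [hP]; norm_num) h3
    exact ⟨A, hA, by rw [hA', hP]; norm_num⟩
  set N := normalizer ((P : Subgroup G) : Set G)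
  have hPN : Nat.card (P : Subgroup G) ∣ Nat.card N := card_dvd_of_le le_normalizer
  have hne : Nat.card N ≠ 4 := fun e => by
    haveI hc : IsMulCommutative (P : Subgroup G) := IsPGroup.isMulCommutative_of_card_eq_prime_sq hP
    refine CfsgLib.SmallSimple.not_le_centralizer P (by rw [hP]; norm_num)
      (by rw [hP, hG]; norm_num) ?_
    have heq : (P : Subgroup G) = N := eq_of_le_of_card_ge le_normalizer (by rw [e, hP]; norm_num)
    intro n hn'
    have hn : n ∈ (P : Subgroup G) := heq.ge hn'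
    exact mem_centralizer_iff.2 fun m hm =>
      congrArg Subtype.val (hc.is_comm.comm ⟨m, hm⟩ (⟨n, hn⟩ : (P : Subgroup G)))
  have htop : N ≠ ⊤ := fun e => CfsgLib.SmallSimple.card_sylow_ne_one P (by rw [hP]; norm_num)
    (by rw [hP, hG]; norm_num) (by rw [P.card_eq_index_normalizer]; exact index_eq_one.2 e)
  have hi := CfsgLib.SmallSimple.card_dvd_factorial N htop
  have hm := N.card_mul_index
  rw [hG] at hi hm
  rw [hP] at hPN
  have hi5 : 5 ≤ N.index := by
    by_contra hlt
    have := Nat.le_of_dvd (Nat.factorial_pos _) hi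
    have : N.index.factorial ≤ Nat.factorial 4 := Nat.factorial_le (by omega)
    norm_num [Nat.factorial] at *
    omega
  obtain ⟨k, hk⟩ := hPN
  rw [hk] at hm hne ⊢
  have hk3 : k ≤ 3 := by nlinarith
  interval_cases k <;> omega

theorem exists_inv_oneSixtyEight [IsSimpleGroup G] (hG : Nat.card G = 168) :
    (∃ A : Subgroup G, Inv x A ∧ Nat.card A = 7) ∧ ∃ A : Subgroup G, Inv x A ∧ Nat.card A = 4 := by
  constructor
  · obtain ⟨P⟩ : Nonempty (Sylow 7 G) := Sylow.nonempty
    obtain ⟨A, hA, hA'⟩ := h.exists_conj_inv (U := (P : Subgroup G))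
      (by rw [CfsgLib.Simple168.card_seven hG P]; norm_num)
      (by rw [CfsgLib.Simple168.card_normalizer_seven hG P]; norm_num)
    exact ⟨A, hA, by rw [hA', CfsgLib.Simple168.card_seven hG P]⟩
  · obtain ⟨T⟩ : Nonempty (Sylow 2 G) := Sylow.nonempty
    obtain ⟨a, b, ha, hb, ha4, hbn, hb2, hba⟩ := CfsgLib.Simple168.exists_conj_mem hG T
    have ha' : a ^ 4 = 1 := by rw [← ha4, pow_orderOf_eq_one]
    have hzz : (a * a) * (a * a) = 1 := by rw [← ha']; simp [pow_succ, mul_assoc]
    have hzb : Commute b (a * a) := by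
      show b * (a * a) = a * a * b
      calc b * (a * a) = (b * a * b⁻¹) * (b * a * b⁻¹) * b := by group
        _ = a⁻¹ * a⁻¹ * b := by rw [hba]
        _ = a * a * b := by
          congr 1
          rw [← mul_inv_rev]
          exact inv_eq_of_mul_eq_one_right hzz
    have hzo : orderOf (a * a) = 2 := by rw [← pow_two, orderOf_pow, ha4]; norm_num
    have hbo : orderOf b = 2 := orderOf_eq_prime (by rw [pow_two, hb2]) fun e => hbn (e ▸ one_mem _)
    have hle : zpowers b ≤ normalizer ((zpowers (a * a) : Subgroup G) : Set G) := by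
      rw [zpowers_le, mem_normalizer_iff_map_conj_eq, MonoidHom.map_zpowers]
      congr 1
      show b * (a * a) * b⁻¹ = a * a
      rw [hzb.eq, mul_inv_cancel_right]
    have hdis : zpowers b ⊓ zpowers (a * a) = ⊥ := le_bot_iff.1 fun c hc => by
      obtain ⟨i, hi⟩ := mem_zpowers_iff.1 (mem_inf.1 hc).1
      rcases Int.even_or_odd i with ⟨j, rfl⟩ | ⟨j, rfl⟩
      · rw [mem_bot, ← hi, zpow_add, ← (Commute.refl b).mul_zpow, hb2, one_zpow]
      · refine absurd ?_ hbn
        have : b ∈ zpowers (a * a) := by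
          have h2 := (mem_inf.1 hc).2
          rwa [← hi, zpow_add, two_mul, zpow_add, ← (Commute.refl b).mul_zpow, hb2, one_zpow,
            one_mul, zpow_one] at h2
        exact zpowers_le.2 (mul_mem (mem_zpowers a) (mem_zpowers a)) this
    set U := zpowers b ⊔ zpowers (a * a) with hU
    have hU4 : Nat.card U = 4 := by
      rw [hU, CfsgLib.Solvable.card_sup_of_disjoint hle hdis, Nat.card_zpowers, Nat.card_zpowers,
        hbo, hzo]
    have hsq : ∀ c ∈ U, c * c = 1 := by
      intro c hc
      have hc' : c ∈ ((zpowers b ⊔ zpowers (a * a) : Subgroup G) : Set G) := hc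
      rw [coe_mul_of_left_le_normalizer_right _ _ hle] at hc'
      obtain ⟨p, hp, q, hq, rfl⟩ := hc'
      obtain ⟨i, rfl⟩ := mem_zpowers_iff.1 hp
      obtain ⟨j, rfl⟩ := mem_zpowers_iff.1 hq
      have hcm := (hzb.zpow_left i).zpow_right j
      show b ^ i * (a * a) ^ j * (b ^ i * (a * a) ^ j) = 1
      rw [hcm.symm.mul_mul_mul_comm, ← (Commute.refl b).mul_zpow, ← (Commute.refl (a * a)).mul_zpow,
        hb2, hzz, one_zpow, one_zpow, one_mul]
    haveI := CfsgLib.Simple168.isKleinFour_of hU4 hsq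
    obtain ⟨A, hA, hA'⟩ := h.exists_conj_inv (U := U) (by rw [hU4]; norm_num)
      (by rw [CfsgLib.Simple168.card_normalizer_klein hG (U := U)]; norm_num)
    exact ⟨A, hA, by rw [hA', hU4]⟩

/-- The normal subgroup of order prime to three below a non-abelian simple quotient is an
`r`-group as soon as the quotient has an invariant `r`-subgroup. -/
theorem core_isPGroup {K : Subgroup G} [K.Normal] (hK : ¬ 3 ∣ Nat.card K)
    [IsSimpleGroup (G ⧸ K)] {r : ℕ} [hr : Fact r.Prime] {A : Subgroup (G ⧸ K)}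
    (hA : Inv (QuotientGroup.mk' K x) A) (hA1 : A ≠ ⊥) (hAr : IsPGroup r A) : IsPGroup r K := by
  haveI : Fact (Nat.Prime 3) := ⟨Nat.prime_three⟩
  set f := QuotientGroup.mk' K with hf
  have hfs : Function.Surjective f := QuotientGroup.mk'_surjective K
  set E := A.comap f
  have hKE : K ≤ E := (QuotientGroup.ker_mk' K).ge.trans (f.ker_le_comap A)
  have hcardE : Nat.card A * Nat.card K = Nat.card E := by
    have := card_map_mk E K
    rwa [map_comap_eq_self_of_surjective hfs, inf_eq_left.2 hKE] at this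
  have hE : Inv x E := by
    refine ⟨fun h3 => ?_, ?_⟩
    · rw [← hcardE] at h3
      rcases Nat.prime_three.dvd_mul.1 h3 with e | e
      exacts [hA.1 e, hK e]
    · have h2 : x ∈ (normalizer (A : Set (G ⧸ K))).comap f := hA.2
      rwa [comap_normalizer_eq_of_surjective _ hfs] at h2
  have hnE := h.isNilpotent hE
  have hnK : Group.IsNilpotent K :=
    h.isNilpotent ⟨hK, by rw [normalizer_eq_top_iff.2 ‹_›]; exact mem_top x⟩
  refine IsPGroup.of_card (n := (Nat.card K).factorization r) ?_
  refine Nat.eq_of_factorization_eq Nat.card_pos.ne' (pow_ne_zero _ hr.out.ne_zero) fun q => ?_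
  rw [hr.out.factorization_pow, Finsupp.single_apply]
  split_ifs with e
  · rw [e]
  by_contra hq0
  have hqs : q ∈ (Nat.card K).factorization.support := Finsupp.mem_support_iff.2 hq0
  rw [Nat.support_factorization, Nat.mem_primeFactors] at hqs
  haveI := Fact.mk hqs.1
  set Q := CfsgLib.NilpotentPart.part K q
  haveI hQn : Q.Normal := normalizer_eq_top_iff.1 (top_le_iff.1 (by
    have := normalizer_le_part K q
    rwa [normalizer_eq_top_iff.2 ‹K.Normal›] at this))
  set R := CfsgLib.NilpotentPart.part E r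
  have hRQ : R ≤ centralizer (Q : Set G) := fun a ha => by
    refine mem_centralizer_iff.2 fun w hw => ?_
    have hwE : w ∈ CfsgLib.NilpotentPart.part E q :=
      le_part hnE ((part_le K q).trans hKE) isPGroup_part hw
    obtain ⟨k, hk⟩ := IsPGroup.iff_orderOf.1 (isPGroup_part (A := E) (p := r)) ⟨a, ha⟩
    rw [Subgroup.orderOf_mk] at hk
    refine (commute_part hnE (part_le E r ha) hwE ?_).eq.symm
    rw [hk]
    exact ((Nat.coprime_primes hr.out hqs.1).2 e).pow_left k
  have hRK : ¬ R ≤ K := fun hle => by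
    have h1 : r ^ (Nat.card E).factorization r ∣ Nat.card K := by
      rw [← card_part hnE]; exact card_dvd_of_le hle
    rw [hr.out.pow_dvd_iff_le_factorization Nat.card_pos.ne', ← hcardE,
      Nat.factorization_mul Nat.card_pos.ne' Nat.card_pos.ne', Finsupp.add_apply] at h1
    obtain ⟨k, hk⟩ := IsPGroup.iff_card.1 hAr
    rw [hk, hr.out.factorization_pow, Finsupp.single_eq_same] at h1
    exact hA1 (eq_bot_of_card_eq _ (by rw [hk, show k = 0 by omega, pow_zero]))
  haveI : (centralizer (Q : Set G)).Normal := inferInstance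
  haveI := (inferInstance : (centralizer (Q : Set G)).Normal).map f hfs
  rcases IsSimpleGroup.eq_bot_or_eq_top_of_normal ((centralizer (Q : Set G)).map f) inferInstance
    with e' | e'
  · refine hRK ?_
    have h1 := (Subgroup.map_eq_bot_iff _).1 (le_bot_iff.1 ((map_mono hRQ).trans e'.le))
    rwa [hf, QuotientGroup.ker_mk'] at h1
  · obtain ⟨c, hc, hcx⟩ := e'.ge (mem_top (f x))
    have h3 : 3 ∣ Nat.card (centralizer (Q : Set G)) := by
      have h1 := orderOf_map_dvd f c
      rw [hcx, hf, (h.quotient hK).ord] at h1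
      exact h1.trans (by have := orderOf_dvd_natCard (⟨c, hc⟩ : centralizer (Q : Set G)); rwa [Subgroup.orderOf_mk] at this)
    obtain ⟨⟨y, hyQ⟩, hy⟩ := exists_prime_orderOf_dvd_card' (G := centralizer (Q : Set G)) 3 h3
    rw [Subgroup.orderOf_mk] at hy
    have hQy : Q ≤ zpowers y := fun w hw =>
      (h.sc_of_orderOf hy).mem_of_commute (mem_centralizer_iff.1 hyQ w hw)
    have hd := card_dvd_of_le hQy
    rw [Nat.card_zpowers, hy, Nat.dvd_prime Nat.prime_three] at hd
    rcases hd with e1 | e1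
    · exact part_ne_bot hnK hqs.2.1 (eq_bot_of_card_eq _ e1)
    · exact hK (e1 ▸ card_dvd_of_le (part_le K q))

end SC

/-- The possible structures. -/
def Good (G : Type u) [Group G] [Finite G] : Prop :=
  haveI : (Cfsg.pPrimeCore 3 G).Normal := CfsgLib.Solvable.pPrimeCore_normal 3
  (Cfsg.pPrimeCore 3 G).index = 3 ∨ (Cfsg.pPrimeCore 3 G).index = 6 ∨
    ((Cfsg.pPrimeCore 3 G).index = 60 ∧ IsSimpleGroup (G ⧸ Cfsg.pPrimeCore 3 G) ∧
      IsPGroup 2 (Cfsg.pPrimeCore 3 G)) ∨
    (Nat.card G = 168 ∧ IsSimpleGroup G)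

theorem not_three_dvd_core : ¬ 3 ∣ Nat.card (Cfsg.pPrimeCore 3 G) :=
  Nat.prime_three.coprime_iff_not_dvd.1
    (Nat.Coprime.symm (CfsgLib.Solvable.coprime_card_pPrimeCore 3))

theorem le_core {N : Subgroup G} (hN : N.Normal) (h : ¬ 3 ∣ Nat.card N) :
    N ≤ Cfsg.pPrimeCore 3 G :=
  CfsgLib.Solvable.le_pPrimeCore 3 hN (Nat.prime_three.coprime_iff_not_dvd.2 h).symm

/-- What a subgroup of known structure says about the invariant subgroups inside it. -/
theorem local_data {x : G} (h : SC x) {H : Subgroup G} (hx : x ∈ H) (hgood : Good H) :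
    ∃ K : Subgroup G, K ≤ H ∧ Inv x K ∧ H ≤ normalizer (K : Set G) ∧
      (∀ U ≤ H, ¬ 3 ∣ Nat.card U → H ≤ normalizer (U : Set G) → U ≤ K) ∧
      (((Nat.card H = 3 * Nat.card K ∨ Nat.card H = 6 * Nat.card K) ∧ ∀ U ≤ H, Inv x U → U ≤ K) ∨
        (IsPGroup 2 K ∧ (∃ A ≤ H, Inv x A ∧ K < A) ∧ ∀ U ≤ H, Inv x U →
          IsPGroup 2 U ∧ ∀ t ∈ H, Inverts t x → t ∈ normalizer (U : Set G) → U ≤ K) ∨
        K = ⊥) := by
  haveI : Fact (Nat.Prime 2) := ⟨Nat.prime_two⟩
  haveI : Fact (Nat.Prime 3) := ⟨Nat.prime_three⟩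
  set x' : H := ⟨x, hx⟩
  have h' : SC x' := h.subgroup hx
  set K' := Cfsg.pPrimeCore 3 H with hK'
  haveI hK'n : K'.Normal := CfsgLib.Solvable.pPrimeCore_normal 3
  have hK'3 : ¬ 3 ∣ Nat.card K' := not_three_dvd_core
  have hI' : Inv x' K' := ⟨hK'3, by rw [normalizer_eq_top_iff.2 hK'n]; exact mem_top x'⟩
  have hcK : Nat.card (K'.map H.subtype) = Nat.card K' :=
    card_map_of_injective H.subtype_injective
  have hHN : H ≤ normalizer ((K'.map H.subtype : Subgroup G) : Set G) := by
    intro a ha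
    exact mem_normalizer_map H.subtype (g := (⟨a, ha⟩ : H))
      (by rw [normalizer_eq_top_iff.2 hK'n]; exact mem_top _)
  refine ⟨K'.map H.subtype, map_subtype_le _, hI'.of_subtype, hHN, fun U hU h3 hN => ?_, ?_⟩
  · rw [← map_subgroupOf_eq_of_le hU]
    refine map_mono (le_core ?_ (by rwa [Nat.card_congr (subgroupOfEquivOfLe hU).toEquiv]))
    exact normal_subgroupOf_of_le_normalizer hN
  have hindex := K'.card_mul_index
  have hquot := h'.quotient hK'3
  have hle_of : ∀ U ≤ H, Nat.card ((U.subgroupOf H).map (QuotientGroup.mk' K')) = 1 →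
      U ≤ K'.map H.subtype := by
    intro U hU e
    rw [← map_subgroupOf_eq_of_le hU]
    refine map_mono ?_
    have := (Subgroup.map_eq_bot_iff _).1 (eq_bot_of_card_eq _ e)
    rwa [QuotientGroup.ker_mk'] at this
  have hsmall : K'.index ∣ 6 → ∀ U ≤ H, Inv x U → U ≤ K'.map H.subtype := by
    intro hd U hU hUi
    refine hle_of U hU (hquot.card_inv_six ?_ ((hUi.subgroupOf hU hx).map _))
    rwa [← index_eq_card]
  rcases hgood with e | e | ⟨e, hs, hp⟩ | ⟨e, hs⟩
  · left
    exact ⟨Or.inl (by rw [hcK, ← hindex, e, mul_comm]), hsmall (by rw [e]; norm_num)⟩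
  · left
    exact ⟨Or.inr (by rw [hcK, ← hindex, e, mul_comm]), hsmall (by rw [e])⟩
  · refine Or.inr (Or.inl ⟨hp.map H.subtype, ?_, fun U hU hUi => ?_⟩)
    · haveI := hs
      obtain ⟨A, hA, hA4⟩ := hquot.exists_inv_sixty (by rw [← index_eq_card]; exact e)
      set E := A.comap (QuotientGroup.mk' K')
      have hfs : Function.Surjective (QuotientGroup.mk' K') := QuotientGroup.mk'_surjective K'
      have hKE : K' ≤ E :=
        (QuotientGroup.ker_mk' K').ge.trans ((QuotientGroup.mk' K').ker_le_comap A)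
      have hcE : Nat.card A * Nat.card K' = Nat.card E := by
        have := card_map_mk E K'
        rwa [map_comap_eq_self_of_surjective hfs, inf_eq_left.2 hKE] at this
      have hE : Inv x' E := by
        refine ⟨fun h3 => ?_, ?_⟩
        · rw [← hcE] at h3
          rcases Nat.prime_three.dvd_mul.1 h3 with e1 | e1
          exacts [hA.1 e1, hK'3 e1]
        · have h2 : x' ∈ (normalizer (A : Set (H ⧸ K'))).comap (QuotientGroup.mk' K') := hA.2
          rwa [comap_normalizer_eq_of_surjective _ hfs] at h2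
      refine ⟨E.map H.subtype, map_subtype_le _, hE.of_subtype, lt_of_le_of_ne (map_mono hKE) ?_⟩
      intro eq
      have := congrArg (fun S : Subgroup G => Nat.card S) eq
      simp only [card_map_of_injective H.subtype_injective] at this
      rw [← hcE, hA4] at this
      have := Nat.card_pos (α := K')
      omega
    · have hUi' := hUi.subgroupOf hU hx
      have hq : Nat.card (H ⧸ K') = 60 := by rw [← index_eq_card]; exact e
      have hcases := hquot.card_inv_sixty hq (hUi'.map (QuotientGroup.mk' K'))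
      refine ⟨?_, fun t ht hi htU => hle_of U hU (hcases.resolve_right fun h4 => ?_)⟩
      · have hmul := card_map_mk (U.subgroupOf H) K'
        have hp' : IsPGroup 2 (K' ⊓ U.subgroupOf H : Subgroup H) := hp.to_le inf_le_left
        obtain ⟨k, hk⟩ := IsPGroup.iff_card.1 hp'
        rw [Nat.card_congr (subgroupOfEquivOfLe hU).toEquiv, hk] at hmul
        rcases hcases with e1 | e1 <;> rw [e1] at hmul
        · exact IsPGroup.of_card (n := k) (by omega)
        · exact IsPGroup.of_card (n := k + 2) (by rw [pow_add]; omega)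
      · have hi' : Inverts (⟨t, ht⟩ : H) x' :=
          ⟨by rw [Subgroup.orderOf_mk, hi.ord], Subtype.ext hi.conj⟩
        have htN : (⟨t, ht⟩ : H) ∈ normalizer ((U.subgroupOf H : Subgroup H) : Set H) := by
          rw [mem_normalizer_iff]
          intro a
          simp only [mem_subgroupOf, Subgroup.coe_mul, Subgroup.coe_inv]
          exact mem_normalizer_iff.1 htU a
        have h8 := (hi'.quotient h' hK'3).two_mul_card_dvd hquot (hUi'.map (QuotientGroup.mk' K'))
          (mem_normalizer_map _ htN) (le_top : _ ≤ ⊤) (mem_top _)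
        rw [h4, Subgroup.card_top, hq] at h8
        norm_num at h8
  · refine Or.inr (Or.inr ?_)
    rcases IsSimpleGroup.eq_bot_or_eq_top_of_normal K' hK'n with e1 | e1
    · rw [e1, Subgroup.map_bot]
    · rw [e1, Subgroup.card_top, e] at hK'3
      norm_num at hK'3

end CfsgLib.SelfThree
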