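import Cfsg.Agent.SelfThree.Local

/-!
Maximal invariant subgroups of a simple group with a self-centralising element of order three
whose proper subgroups containing that element have known structure.
-/

set_option autoImplicit false
set_option linter.style.haveILetI false

namespace CfsgLib.SelfThree

open Subgroup CfsgLib.NilpotentPart

universe u

variable {G : Type u} [Group G] [Finite G] {x t : G}

/-- The standing situation. -/
structure Setting (x t : G) : Prop where
  simp : IsSimpleGroup G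
  nonab : ¬ IsMulCommutative G
  sc : SC x
  inv : Inverts t x
  good : ∀ H : Subgroup G, H ≠ ⊤ → x ∈ H → Good H

/-- A maximal invariant subgroup. -/
structure IsMax (x : G) (M : Subgroup G) : Prop where
  inv : Inv x M
  ne_bot : M ≠ ⊥
  max : ∀ U, Inv x U → M ≤ U → U = M

theorem mem_normalizer_zpowers_cases (h : SC x) (hi : Inverts t x) {n : G}
    (hn : n * x * n⁻¹ = x ∨ n * x * n⁻¹ = x⁻¹) : n ∈ zpowers x ∨ ∃ c ∈ zpowers x, n = c * t := by
  rcases hn with e | e
  · exact Or.inl (h.mem_of_commute (mul_inv_eq_iff_eq_mul.1 e))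
  · refine Or.inr ⟨n * t, h.mem_of_commute ?_, by rw [mul_assoc, hi.mul_self, mul_one]⟩
    show n * t * x = x * (n * t)
    rw [mul_assoc, hi.mul_x, ← mul_assoc,
      show n * x⁻¹ = x * n by
        calc n * x⁻¹ = (n * x * n⁻¹)⁻¹ * n := by group
          _ = x * n := by rw [e, inv_inv],
      mul_assoc]

theorem map_conj_conj (a b : G) (M : Subgroup G) :
    (M.map (MulAut.conj b).toMonoidHom).map (MulAut.conj a).toMonoidHom =
      M.map (MulAut.conj (a * b)).toMonoidHom := by
  rw [map_map]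
  congr 1
  ext z
  simp [mul_assoc]

theorem map_conj_self {M : Subgroup G} {a : G} (ha : a ∈ normalizer (M : Set G)) :
    M.map (MulAut.conj a).toMonoidHom = M :=
  mem_normalizer_iff_map_conj_eq.1 ha

namespace Setting

variable (S : Setting x t)
include S

theorem normalizer_ne_top {U : Subgroup G} (hU : ¬ 3 ∣ Nat.card U) (h1 : U ≠ ⊥) :
    normalizer (U : Set G) ≠ ⊤ := fun e => by
  haveI := S.simp
  haveI := normalizer_eq_top_iff.1 e
  rcases IsSimpleGroup.eq_bot_or_eq_top_of_normal U inferInstance with e' | e'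
  · exact h1 e'
  · haveI : Fact (Nat.Prime 3) := ⟨Nat.prime_three⟩
    rw [e', Subgroup.card_top] at hU
    exact hU S.sc.three_dvd

omit S in
theorem exists_max {U : Subgroup G} (hU : Inv x U) (h1 : U ≠ ⊥) : ∃ M, IsMax x M ∧ U ≤ M := by
  obtain ⟨M, hle, hM⟩ := Finite.exists_le_maximal (p := fun W : Subgroup G => Inv x W) hU
  exact ⟨M, ⟨hM.prop, fun e => h1 (le_bot_iff.1 (e ▸ hle)),
    fun W hW hMW => (hM.eq_of_le hW hMW).symm⟩, hle⟩

theorem max_data {M : Subgroup G} (hM : IsMax x M) :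
    (Nat.card (normalizer (M : Set G)) = 3 * Nat.card M ∨
      Nat.card (normalizer (M : Set G)) = 6 * Nat.card M) ∧
    ∀ U ≤ normalizer (M : Set G), ¬ 3 ∣ Nat.card U →
      normalizer (M : Set G) ≤ normalizer (U : Set G) → U ≤ M := by
  obtain ⟨K, hKH, hK, hHK, hmaxK, hcases⟩ :=
    local_data S.sc hM.inv.2 (S.good _ (S.normalizer_ne_top hM.inv.1 hM.ne_bot) hM.inv.2)
  have hKM : K = M := hM.max K hK (hmaxK M le_normalizer hM.inv.1 le_rfl)
  subst hKM
  refine ⟨?_, hmaxK⟩
  rcases hcases with ⟨e, -⟩ | ⟨-, ⟨A, -, hA, hlt⟩, -⟩ | e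
  · exact e
  · exact absurd (hM.max A hA hlt.le) hlt.ne'
  · exact absurd e hM.ne_bot

theorem normalizer_part_eq {M : Subgroup G} (hM : IsMax x M) {q : ℕ} [hq : Fact q.Prime]
    (hd : q ∣ Nat.card M) :
    normalizer ((part M q : Subgroup G) : Set G) = normalizer (M : Set G) := by
  haveI : Fact (Nat.Prime 2) := ⟨Nat.prime_two⟩
  refine le_antisymm ?_ (normalizer_le_part M q)
  have hn := S.sc.isNilpotent hM.inv
  have hQ := hM.inv.part q
  have hQ1 := part_ne_bot hn hd
  obtain ⟨K, hKH, hK, hHK, hmaxK, hcases⟩ :=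
    local_data S.sc hQ.2 (S.good _ (S.normalizer_ne_top hQ.1 hQ1) hQ.2)
  have hQK : part M q ≤ K := hmaxK _ le_normalizer hQ.1 le_rfl
  have hMN : M ≤ normalizer ((part M q : Subgroup G) : Set G) := le_normalizer_part M q
  rcases hcases with ⟨-, hI⟩ | ⟨hK2, ⟨A, -, hA, hlt⟩, hII⟩ | e
  · exact hHK.trans (le_of_eq (by rw [hM.max K hK (hI M hMN hM.inv)]))
  · exfalso
    have hMK : M ≤ normalizer (K : Set G) := hMN.trans hHK
    have hP : IsPGroup 2 (M ⊔ K : Subgroup G) :=
      (hII M hMN hM.inv).1.to_sup_of_normal_right' hK2 hMK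
    have hsup : Inv x (M ⊔ K) := by
      refine ⟨fun h3 => ?_, ?_⟩
      · obtain ⟨k, hk⟩ := IsPGroup.iff_card.1 hP
        rw [hk] at h3
        have := (Nat.prime_dvd_prime_iff_eq Nat.prime_three Nat.prime_two).1
          (Nat.prime_three.dvd_of_dvd_pow h3)
        omega
      · rw [mem_normalizer_iff_map_conj_eq, Subgroup.map_sup]
        congr 1
        · exact mem_normalizer_iff_map_conj_eq.1 hM.inv.2
        · exact mem_normalizer_iff_map_conj_eq.1 hK.2
    have hKM : K ≤ M := le_sup_right.trans (hM.max _ hsup le_sup_left).le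
    have hM2 : IsPGroup 2 M := (hII M hMN hM.inv).1
    have hq2 : q = 2 := by
      obtain ⟨k, hk⟩ := IsPGroup.iff_card.1 hM2
      rw [hk] at hd
      exact (Nat.prime_dvd_prime_iff_eq hq.out Nat.prime_two).1 (hq.out.dvd_of_dvd_pow hd)
    subst hq2
    have hMQ : M ≤ part M 2 := le_part hn le_rfl hM2
    have hKeq : K = M := le_antisymm hKM (hMQ.trans hQK)
    exact hlt.ne' (hKeq ▸ hM.max A hA (hKeq ▸ hlt.le))
  · exact absurd (le_bot_iff.1 (e ▸ hQK)) hQ1

theorem t_mem_iff {M : Subgroup G} (hM : IsMax x M) :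
    t ∈ normalizer (M : Set G) ↔ Nat.card (normalizer (M : Set G)) = 6 * Nat.card M := by
  haveI : Fact (Nat.Prime 3) := ⟨Nat.prime_three⟩
  obtain ⟨hc, hmax⟩ := S.max_data hM
  have hpos := Nat.card_pos (α := M)
  constructor
  · intro ht
    refine hc.resolve_left fun e => ?_
    have h2 := S.inv.two_mul_card_dvd S.sc hM.inv ht le_normalizer ht
    rw [e] at h2
    have := Nat.dvd_of_mul_dvd_mul_right hpos h2
    omega
  · intro e
    set H := normalizer (M : Set G) with hH
    have h' : SC (⟨x, hM.inv.2⟩ : H) := S.sc.subgroup hM.inv.2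
    rcases h'.card_normalizer with e3 | e6
    · obtain ⟨K0, hK0, hcard, hK03⟩ := h'.burnside e3
      exfalso
      have hc0 : Nat.card (K0.map H.subtype) = Nat.card K0 :=
        card_map_of_injective H.subtype_injective
      have hle : K0.map H.subtype ≤ M := by
        refine hmax _ (map_subtype_le _) (by rwa [hc0]) fun a ha => ?_
        exact mem_normalizer_map H.subtype (g := (⟨a, ha⟩ : H))
          (by rw [normalizer_eq_top_iff.2 hK0]; exact mem_top _)
      have := Nat.le_of_dvd hpos (card_dvd_of_le hle)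
      rw [hc0] at this
      omega
    · obtain ⟨⟨t', ht'⟩, hord, hconj⟩ := h'.inverts_of_six e6
      have hi' : Inverts t' x :=
        ⟨by rw [← hord, Subgroup.orderOf_mk], congrArg Subtype.val hconj⟩
      have h1 : t' * t ∈ H := zpowers_le.2 hM.inv.2 (S.inv.mem_mul S.sc hi')
      simpa [← mul_assoc, hi'.mul_self] using mul_mem ht' h1

theorem card_part_full {M : Subgroup G} (hM : IsMax x M) {q : ℕ} [hq : Fact q.Prime]
    (hd : q ∣ Nat.card M) (hfull : q ≠ 2 ∨ t ∉ normalizer (M : Set G)) :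
    Nat.card (part M q) = q ^ (Nat.card G).factorization q := by
  have hn := S.sc.isNilpotent hM.inv
  have hcard := card_part (p := q) hn
  have hle : (Nat.card M).factorization q ≤ (Nat.card G).factorization q :=
    (Nat.factorization_le_iff_dvd Nat.card_pos.ne' Nat.card_pos.ne').2 (card_subgroup_dvd_card M) q
  rcases hle.eq_or_lt with e | e
  · rw [hcard, e]
  exfalso
  set v := (Nat.card M).factorization q with hv
  have h1 : q ∣ _ := Sylow.prime_dvd_card_quotient_normalizer
    ((hq.out.pow_dvd_iff_le_factorization Nat.card_pos.ne').2 (show v + 1 ≤ _ from e)) hcard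
  set N := normalizer ((part M q : Subgroup G) : Set G) with hN
  have h2 := ((part M q).subgroupOf N).card_mul_index
  rw [Nat.card_congr (subgroupOfEquivOfLe (le_normalizer : part M q ≤ N)).toEquiv, hcard,
    index_eq_card] at h2
  have h3 : q ^ (v + 1) ∣ Nat.card N := by
    rw [← h2, pow_succ]
    exact Nat.mul_dvd_mul_left _ h1
  rw [hN, S.normalizer_part_eq hM hd] at h3
  have hq3 : q ≠ 3 := fun e3 => hM.inv.1 (e3 ▸ hd)
  have hcop : ∀ k : ℕ, ¬ q ∣ k → q ^ (v + 1) ∣ k * Nat.card M → False := by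
    intro k hk hdv
    have h4 := (((hq.out.coprime_iff_not_dvd.2 hk).pow_left (v + 1)).dvd_of_dvd_mul_left hdv)
    have h5 := (hq.out.pow_dvd_iff_le_factorization Nat.card_pos.ne').1 h4
    omega
  have h23 : ∀ p : ℕ, p.Prime → q ∣ p → q = p := fun p hp hdp =>
    (Nat.prime_dvd_prime_iff_eq hq.out hp).1 hdp
  rcases (S.max_data hM).1 with e' | e' <;> rw [e'] at h3
  · exact hcop 3 (fun hd' => hq3 (h23 3 Nat.prime_three hd')) h3
  · refine hcop 6 (fun hd' => ?_) h3
    rcases hfull with h' | h'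
    · rcases hq.out.dvd_mul.1 (show q ∣ 2 * 3 from hd') with e2 | e2
      · exact h' (h23 2 Nat.prime_two e2)
      · exact hq3 (h23 3 Nat.prime_three e2)
    · exact h' ((S.t_mem_iff hM).2 e')

theorem conj_max {M : Subgroup G} (hM : IsMax x M) :
    IsMax x (M.map (MulAut.conj t).toMonoidHom) := by
  have htt : ∀ U : Subgroup G,
      (U.map (MulAut.conj t).toMonoidHom).map (MulAut.conj t).toMonoidHom = U := fun U => by
    rw [map_conj_conj, S.inv.mul_self]
    exact map_conj_self (one_mem _)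
  refine ⟨S.inv.conj_inv hM.inv, fun e => hM.ne_bot ?_, fun U hU hle => ?_⟩
  · rw [← htt M, e, Subgroup.map_bot]
  · have h1 := hM.max _ (S.inv.conj_inv hU) (by rw [← htt M]; exact map_mono hle)
    rw [← htt U, h1]

/-- Two maximal subgroups sharing a full prime. -/
theorem common_full {M M' : Subgroup G} (hM : IsMax x M) (hM' : IsMax x M') {q : ℕ}
    [hq : Fact q.Prime] (hd : q ∣ Nat.card M) (hd' : q ∣ Nat.card M')
    (hf : q ≠ 2 ∨ t ∉ normalizer (M : Set G)) (hf' : q ≠ 2 ∨ t ∉ normalizer (M' : Set G)) :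
    M' = M ∨ M' = M.map (MulAut.conj t).toMonoidHom := by
  haveI : Fact (Nat.Prime 3) := ⟨Nat.prime_three⟩
  let P : Sylow q G := Sylow.ofCard (part M q) (S.card_part_full hM hd hf)
  let P' : Sylow q G := Sylow.ofCard (part M' q) (S.card_part_full hM' hd' hf')
  obtain ⟨g, hg⟩ := MulAction.exists_smul_eq G P P'
  have hPart : (part M q).map (MulAut.conj g).toMonoidHom = part M' q := by
    have := congrArg (fun R : Sylow q G => (R : Subgroup G)) hg
    rw [Sylow.coe_subgroup_smul] at this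
    exact this
  have hN : (normalizer (M : Set G)).map (MulAut.conj g).toMonoidHom = normalizer (M' : Set G) := by
    rw [← S.normalizer_part_eq hM hd, ← S.normalizer_part_eq hM' hd', ← hPart]
    exact map_equiv_normalizer_eq _ _
  set M1 := M.map (MulAut.conj g).toMonoidHom with hM1
  have hN1 : normalizer (M1 : Set G) = normalizer (M' : Set G) := by
    rw [← hN]
    exact (map_equiv_normalizer_eq _ _).symm
  have hle : M1 ≤ M' := (S.max_data hM').2 M1 (hN1 ▸ le_normalizer)
    (by rw [hM1, card_map_of_injective (MulAut.conj g).injective]; exact hM.inv.1) hN1.ge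
  have hx1 : Inv x M1 :=
    ⟨by rw [hM1, card_map_of_injective (MulAut.conj g).injective]; exact hM.inv.1,
      hN1 ▸ hM'.inv.2⟩
  have hle' : M' ≤ M1 := by
    intro m hm
    have h2 : M'.map (MulAut.conj g⁻¹).toMonoidHom ≤ M := by
      have hN2 : normalizer ((M'.map (MulAut.conj g⁻¹).toMonoidHom : Subgroup G) : Set G) =
          normalizer (M : Set G) := by
        rw [← map_equiv_normalizer_eq, ← hN, map_conj_conj, inv_mul_cancel]
        exact map_conj_self (one_mem _)
      refine (S.max_data hM).2 _ (hN2 ▸ le_normalizer) ?_ hN2.ge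
      rw [card_map_of_injective (MulAut.conj g⁻¹).injective]
      exact hM'.inv.1
    exact ⟨g⁻¹ * m * g, h2 ⟨m, hm, by simp [mul_assoc]⟩, by simp [mul_assoc]⟩
  have heq : M' = M1 := le_antisymm hle' hle
  -- move `g` into the normaliser of `⟨x⟩`
  have hy : g⁻¹ * x * g ∈ normalizer (M : Set G) := by
    obtain ⟨y, hy, hye⟩ : x ∈ (normalizer (M : Set G)).map (MulAut.conj g).toMonoidHom := by
      rw [hN]; exact hM'.inv.2
    have hye' : g * y * g⁻¹ = x := hye
    rw [← hye']
    simpa [mul_assoc] using hy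
  have h' : SC (⟨x, hM.inv.2⟩ : normalizer (M : Set G)) := S.sc.subgroup hM.inv.2
  obtain ⟨⟨k, hk⟩, hkc⟩ := h'.exists_conj (y := ⟨g⁻¹ * x * g, hy⟩) (by
    rw [Subgroup.orderOf_mk]
    simpa using (S.sc.conj g⁻¹).ord)
  have hgk : (g * k) * x * (g * k)⁻¹ = x ∨ (g * k) * x * (g * k)⁻¹ = x⁻¹ := by
    rcases hkc with e | e
    · left
      have e' : g⁻¹ * x * g = k * x * k⁻¹ := congrArg Subtype.val e
      calc g * k * x * (g * k)⁻¹ = g * (k * x * k⁻¹) * g⁻¹ := by group
        _ = x := by rw [← e']; group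
    · right
      have e' : g⁻¹ * x * g = k * x⁻¹ * k⁻¹ := congrArg Subtype.val e
      calc g * k * x * (g * k)⁻¹ = (g * (k * x⁻¹ * k⁻¹) * g⁻¹)⁻¹ := by group
        _ = x⁻¹ := by rw [← e']; group
  have hM'gk : M' = M.map (MulAut.conj (g * k)).toMonoidHom := by
    rw [← map_conj_conj, map_conj_self hk, heq, hM1]
  rcases mem_normalizer_zpowers_cases S.sc S.inv hgk with e | ⟨c, hc, e⟩
  · left
    rw [hM'gk]
    exact map_conj_self (zpowers_le.2 hM.inv.2 e)
  · right
    rw [hM'gk, e, ← map_conj_conj]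
    exact map_conj_self (zpowers_le.2 (S.inv.conj_inv hM.inv).2 hc)

/-- Two distinct maximal subgroups normalised by `t` meet trivially. -/
theorem inf_eq_bot {M₁ M₂ : Subgroup G} (h1 : IsMax x M₁) (h2 : IsMax x M₂)
    (t1 : t ∈ normalizer (M₁ : Set G)) (t2 : t ∈ normalizer (M₂ : Set G)) (hne : M₁ ≠ M₂) :
    M₁ ⊓ M₂ = ⊥ := by
  let PT : Subgroup G → Prop := fun U => Inv x U ∧ t ∈ normalizer (U : Set G)
  let Bad : Subgroup G → Prop := fun W => ∃ A B : Subgroup G,
    Maximal PT A ∧ Maximal PT B ∧ A ≠ B ∧ W = A ⊓ B ∧ W ≠ ⊥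
  by_contra hb
  have hmax : ∀ M, IsMax x M → t ∈ normalizer (M : Set G) → Maximal PT M :=
    fun M hM ht => ⟨⟨hM.inv, ht⟩, fun U hU hle => (hM.max U hU.1 hle).le⟩
  obtain ⟨W, -, hW⟩ := Finite.exists_le_maximal (p := Bad)
    (⟨M₁, M₂, hmax M₁ h1 t1, hmax M₂ h2 t2, hne, rfl, hb⟩ : Bad (M₁ ⊓ M₂))
  obtain ⟨A, B, hA, hB, hAB, rfl, hW1⟩ := hW.prop
  have hWi : PT (A ⊓ B) :=
    ⟨⟨fun h3 => hA.prop.1.1 (h3.trans (card_dvd_of_le inf_le_left)),
      inf_normalizer_le_normalizer_inf ⟨hA.prop.1.2, hB.prop.1.2⟩⟩,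
      inf_normalizer_le_normalizer_inf ⟨hA.prop.2, hB.prop.2⟩⟩
  set H := normalizer ((A ⊓ B : Subgroup G) : Set G) with hH
  obtain ⟨K, hKH, hK, hHK, hmaxK, hcases⟩ :=
    local_data S.sc hWi.1.2 (S.good _ (S.normalizer_ne_top hWi.1.1 hW1) hWi.1.2)
  have hWK : A ⊓ B ≤ K := hmaxK _ le_normalizer hWi.1.1 le_rfl
  -- the trace of a maximal member lands in `K`
  have key : ∀ C, Maximal PT C → A ⊓ B < C → A ⊓ B < C ⊓ H ∧ C ⊓ H ≤ K := by
    intro C hC hlt
    constructor
    · haveI := S.sc.isNilpotent hC.prop.1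
      have hlt' : (A ⊓ B).subgroupOf C < ⊤ := lt_top_iff_ne_top.2 fun e =>
        hlt.not_ge (subgroupOf_eq_top.1 e)
      have h3 := normalizerCondition_of_isNilpotent _ hlt'
      obtain ⟨⟨c, hcC⟩, hc, hcn⟩ := SetLike.exists_of_lt h3
      refine lt_of_le_of_ne (le_inf hlt.le le_normalizer) fun e => hcn ?_
      rw [mem_subgroupOf]
      show c ∈ A ⊓ B
      rw [e]
      refine ⟨hcC, ?_⟩
      show c ∈ normalizer ((A ⊓ B : Subgroup G) : Set G)
      rw [mem_normalizer_iff]
      intro w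
      constructor
      · intro hw
        have := (mem_normalizer_iff.1 hc ⟨w, hlt.le hw⟩).1 hw
        exact this
      · intro hw
        have hwC : w ∈ C := by
          have := mul_mem (mul_mem (inv_mem hcC) (hlt.le hw)) hcC
          simpa [mul_assoc] using this
        exact (mem_normalizer_iff.1 hc ⟨w, hwC⟩).2 hw
    · have hCi : Inv x (C ⊓ H) :=
        ⟨fun h3 => hC.prop.1.1 (h3.trans (card_dvd_of_le inf_le_left)),
          inf_normalizer_le_normalizer_inf ⟨hC.prop.1.2, le_normalizer hWi.1.2⟩⟩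
      rcases hcases with ⟨-, hI⟩ | ⟨-, -, hII⟩ | e
      · exact hI _ inf_le_right hCi
      · exact (hII _ inf_le_right hCi).2 t hWi.2 S.inv
          (inf_normalizer_le_normalizer_inf ⟨hC.prop.2, le_normalizer hWi.2⟩)
      · exact absurd (le_bot_iff.1 (e ▸ hWK)) hW1
  have hltA : A ⊓ B < A := lt_of_le_of_ne inf_le_left fun e =>
    hAB (le_antisymm (inf_eq_left.1 e) (hA.le_of_ge hB.prop (inf_eq_left.1 e)))
  have hltB : A ⊓ B < B := lt_of_le_of_ne inf_le_right fun e =>
    hAB (le_antisymm (hB.le_of_ge hA.prop (inf_eq_right.1 e)) (inf_eq_right.1 e))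
  obtain ⟨C, hKC, hC⟩ := Finite.exists_le_maximal (p := PT)
    (⟨hK, hHK hWi.2⟩ : PT K)
  have heq : ∀ D, Maximal PT D → A ⊓ B < D → D = C := by
    intro D hD hlt
    by_contra hne'
    obtain ⟨k1, k2⟩ := key D hD hlt
    have hlt2 : A ⊓ B < D ⊓ C := k1.trans_le (le_inf inf_le_left (k2.trans hKC))
    exact hlt2.not_ge (hW.le_of_ge ⟨D, C, hD, hC, hne', rfl,
      fun e => hW1 (le_bot_iff.1 (e ▸ hlt2.le))⟩ hlt2.le)
  exact hAB ((heq A hA hltA).trans (heq B hB hltB).symm)

end Setting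

end CfsgLib.SelfThree
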